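import Mathlib
import Cfsg.Agent.Mrg.Omega.TitsAmal.Tri
import Cfsg.Agent.Mrg.Omega.TitsAmal.TriQK
import Cfsg.Agent.Classification.TitsFin.TriBO
import Cfsg.Agent.Classification.TitsFin.TwoFEnd
import Cfsg.Agent.Classification.TitsFin.Mod16
import Cfsg.Agent.Classification.TitsFin.TriBSec
import Cfsg.Agent.Classification.TitsFin.Defs
import Cfsg.Agent.Mrg.Omega.TitsIso.Main
import Cfsg.Agent.Mrg.Omega.NO3S.Fit.AbsMain

-- merged: Cfsg.Agent.Mrg.Omega.TitsAmal.TriB
section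

section


/-!
# Case B of the Tits end: `|K_p| = 64` (groups of `²F₄(2)` type)

Blueprint `P21-FIN-helper531.md`, section B, in the shortened form of helper117: (B1), (B2), (B3') and the input of
`TwoFEnd.Data.false_of`.
-/

set_option autoImplicit false
set_option linter.style.haveILetI false

namespace Cfsg.Agent.Omega.TitsAmal.TriB

open Subgroup Cfsg Cfsg.Agent.ZN Cfsg.Agent.MinSimple.Geo
open Cfsg.Agent.Classification.TitsFin
open Cfsg.Agent.Omega.TitsAmal.Tri (Pt kst K Q cj_kst kst_le)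
open Cfsg.Agent.Omega.TitsAmal.TriAct Cfsg.Agent.Omega.TitsAmal.TriQK
open Cfsg.Agent.Omega.TitsAmal.TriTen
open Cfsg.Agent.MinSimple.VModule (oddGen)
open Cfsg.Agent.ZN.Block (card_mul_relIndex' mul_mem_of_relIndex_two)

universe u

variable {G : Type u} [Group G] {V : Subgroup G} {U C : G → Subgroup G} {p q : G}

theorem cj_K (h : Tri V U C) {n : G} (hn : n ∈ normalizer (V : Set G)) (hp : Pt V p) :
    cj n (K U p) = K U (n * p * n⁻¹) := by
  ext x
  rw [mem_cj, mem_centralizer_iff, mem_centralizer_iff, ← h.conjU n hn p hp]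
  constructor
  · rintro hx _ ⟨u, hu, rfl⟩
    change n * u * n⁻¹ * x = x * (n * u * n⁻¹)
    have h1 := hx u hu
    calc n * u * n⁻¹ * x = n * (u * (n⁻¹ * x * n)) * n⁻¹ := by group
      _ = n * (n⁻¹ * x * n * u) * n⁻¹ := by rw [h1]
      _ = x * (n * u * n⁻¹) := by group
  · intro hx u hu
    have h1 := hx (n * u * n⁻¹) ⟨u, hu, rfl⟩
    calc u * (n⁻¹ * x * n) = n⁻¹ * (n * u * n⁻¹ * x) * n := by group
      _ = n⁻¹ * (x * (n * u * n⁻¹)) * n := by rw [h1]
      _ = n⁻¹ * x * n * u := by group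

theorem cj_Q (h : Tri V U C) {n : G} (hn : n ∈ normalizer (V : Set G)) (hp : Pt V p) :
    cj n (Q U C p) = Q U C (n * p * n⁻¹) := by
  rw [cj_kst, h.conjC n hn p hp, h.conjU n hn p hp]

theorem card_K_all (h : Tri V U C) (hp : Pt V p) (hq : Pt V q) (hK : Nat.card ↥(K U p) = 64) :
    Nat.card ↥(K U q) = 64 := by
  by_cases hpq : p = q
  · rw [← hpq]; exact hK
  · obtain ⟨n, hn, h1, -⟩ := h.exists_swap hp hq hpq
    rw [← h1, ← cj_K h hn hp, card_cj]
    exact hK

theorem relIndex_U (h : Tri V U C) (hp : Pt V p) (hK : Nat.card ↥(K U p) = 64) :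
    (U p).relIndex (K U p) = 2 := by
  have h1 := card_mul_relIndex' (h.U_le_K hp)
  rw [hK, h.cardU p hp] at h1
  omega

theorem mul_mem_U (h : Tri V U C) (hp : Pt V p) (hK : Nat.card ↥(K U p) = 64) {k l : G} (hk : k ∈ K U p)
    (hl : l ∈ K U p) (hkU : k ∉ U p) (hlU : l ∉ U p) : k * l ∈ U p :=
  mul_mem_of_relIndex_two (relIndex_U h hp hK) hk hl hkU hlU

theorem exists_k (h : Tri V U C) (hp : Pt V p) (hK : Nat.card ↥(K U p) = 64) : ∃ k ∈ K U p, k ∉ U p := by
  by_contra hcon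
  push Not at hcon
  have h1 := relIndex_U h hp hK
  have h2 : K U p ≤ U p := hcon
  rw [relIndex_eq_one.mpr h2] at h1
  omega

theorem K_comm (h : Tri V U C) (hp : Pt V p) (hK : Nat.card ↥(K U p) = 64) {k l : G} (hk : k ∈ K U p)
    (hl : l ∈ K U p) : k * l = l * k := by
  by_cases hkU : k ∈ U p
  · exact mem_centralizer_iff.mp hl k hkU
  by_cases hlU : l ∈ U p
  · exact (mem_centralizer_iff.mp hk l hlU).symm
  have h1 := mem_centralizer_iff.mp hk _ (mul_mem_U h hp hK hk hl hkU hlU)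
  -- `k l k = k k l`
  have h2 : k * (l * k) = k * (k * l) := by rw [← mul_assoc, h1]
  exact (mul_left_cancel h2).symm

theorem conj_mem_K (h : Tri V U C) (hp : Pt V p) {c k : G} (hc : c ∈ C p) (hk : k ∈ K U p) :
    c * k * c⁻¹ ∈ K U p := Block.conj_mem_of_normalizer (h.C_le_normK hp) hc hk

theorem conj_mem_Q (h : Tri V U C) (hp : Pt V p) {c k : G} (hc : c ∈ C p) (hk : k ∈ Q U C p) :
    c * k * c⁻¹ ∈ Q U C p := Block.conj_mem_of_normalizer (h.C_le_normQ hp) hc hk

theorem comm_K_C (h : Tri V U C) (hp : Pt V p) (hK : Nat.card ↥(K U p) = 64) {k c : G} (hk : k ∈ K U p)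
    (hc : c ∈ C p) : c * k * c⁻¹ * k⁻¹ ∈ U p := by
  by_cases hkU : k ∈ U p
  · exact mul_mem (h.conj_memU hp hc hkU) (inv_mem hkU)
  · refine mul_mem_U h hp hK (conj_mem_K h hp hc hk) (inv_mem hk) (fun h1 => hkU ?_)
      (fun h1 => hkU (inv_mem_iff.mp h1))
    have h2 := h.conj_memU' hp hc h1
    have e : c⁻¹ * (c * k * c⁻¹) * c = k := by group
    rwa [e] at h2

variable [Finite G]

theorem pow_five (h : Tri V U C) (hp : Pt V p) {f : G} (hf : IsF U C p f) : f ^ 5 = 1 := by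
  have h1 := isPGroup_Q h hp
  obtain ⟨k, hk⟩ := (IsPGroup.iff_orderOf.mp h1) ⟨f ^ 5, hf.pow⟩
  rw [Subgroup.orderOf_mk] at hk
  have h2 : Odd (orderOf (f ^ 5)) := hf.odd.of_dvd_nat (orderOf_pow_dvd 5)
  rw [hk] at h2
  rcases Nat.eq_zero_or_pos k with rfl | hk0
  · rw [pow_zero] at hk
    exact orderOf_eq_one_iff.mp hk
  · exact absurd h2 (by
      rw [Nat.not_odd_iff_even]
      exact (Nat.even_pow.mpr ⟨even_two, hk0.ne'⟩))

/-- `f` centralises an element of `K_p - U_p` -/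
theorem exists_kf (h : Tri V U C) (hp : Pt V p) (hK : Nat.card ↥(K U p) = 64) {f : G} (hf : IsF U C p f) :
    ∃ k ∈ K U p, k ∉ U p ∧ f * k * f⁻¹ = k := by
  classical
  haveI : Fact (Nat.Prime 5) := ⟨by norm_num⟩
  have f5 := pow_five h hp hf
  let S : Type u := {k : G // k ∈ K U p ∧ k ∉ U p}
  let F : Function.End S := fun k => ⟨f * k * f⁻¹, conj_mem_K h hp hf.mem k.2.1, fun h1 => k.2.2 (by
    have h2 := h.conj_memU' hp hf.mem h1
    have e : f⁻¹ * (f * (k : G) * f⁻¹) * f = k := by group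
    rwa [e] at h2)⟩
  have hF : ∀ (n : ℕ) (k : S), ((F ^ n) k : G) = f ^ n * k * (f ^ n)⁻¹ := by
    intro n
    induction n with
    | zero =>
      intro k
      rw [pow_zero, pow_zero, one_mul, inv_one, mul_one]
      rfl
    | succ n ih =>
      intro k
      rw [pow_succ]
      change ((F ^ n) (F k) : G) = _
      rw [ih]
      change f ^ n * (f * k * f⁻¹) * (f ^ n)⁻¹ = _
      rw [pow_succ]
      group
  have h1 : F ^ 5 ^ 1 = 1 := by
    funext k
    apply Subtype.ext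
    rw [pow_one, hF, f5, one_mul, inv_one, mul_one]
    rfl
  haveI : Fintype S := Fintype.ofFinite S
  have h2 := Equiv.Perm.card_fixedPoints_modEq h1
  have h3 : Fintype.card S = 32 := by
    have e : Nat.card S = Nat.card ↥(K U p) - Nat.card ↥(U p) := by
      have h4 : ({k : G | k ∈ K U p ∧ k ∉ U p}) = (K U p : Set G) \ (U p : Set G) := rfl
      have h5 := Set.ncard_sdiff (s := (U p : Set G)) (t := (K U p : Set G)) (h.U_le_K hp) (Set.toFinite _)
      rw [← h4] at h5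
      exact h5
    rw [← Nat.card_eq_fintype_card, e, hK, h.cardU p hp]
  rw [h3] at h2
  by_contra hcon
  push Not at hcon
  have h4 : Fintype.card (Function.fixedPoints F) = 0 := by
    rw [Fintype.card_eq_zero_iff]
    refine ⟨fun k => hcon k.1.1 k.1.2.1 k.1.2.2 (congrArg Subtype.val k.2)⟩
  rw [h4] at h2
  exact absurd h2 (by decide)

/-- (B1) -/
theorem rho (h : Tri V U C) (hp : Pt V p) (hK : Nat.card ↥(K U p) = 64) {k x : G} (hk : k ∈ K U p)
    (hkU : k ∉ U p) (hx : x ∈ Q U C p) (hxk : x * k * x⁻¹ = k ∨ x * k * x⁻¹ = p * k) : x ∈ K U p := by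
  obtain ⟨f, hf⟩ := exists_isF h hp
  have hpp := h.pp hp
  have hpK : ∀ w ∈ K U p, w * p = p * w := fun w hw =>
    (mem_centralizer_iff.mp hw p (h.V_le p hp hp.1)).symm
  set N : Subgroup G := kst (Q U C p) (K U p) p with hN
  have hNinv : ∀ b ∈ N, f * b * f⁻¹ ∈ N := by
    intro b hb
    have h1 : cj f N = N := by
      rw [hN, cj_kst, cj_eq_of_mem_normalizer (h.C_le_normQ hp hf.mem),
        cj_eq_of_mem_normalizer (h.C_le_normK hp hf.mem), h.c_comm hp hf.mem, mul_inv_cancel_right]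
    rw [← h1]
    exact conj_mem_cj hb
  have hNQ : N ≤ Q U C p := kst_le _ _ _
  have hKN : K U p ≤ N := by
    intro l hl
    refine ⟨h.K_le_Q hp hl, hpK l hl, fun w hw => ?_, fun w hw => ?_⟩
    · rw [K_comm h hp hK hl hw, mul_inv_cancel_right, mul_inv_cancel]; exact one_mem _
    · rw [mul_assoc l⁻¹, K_comm h hp hK hw hl, inv_mul_cancel_left, mul_inv_cancel]; exact one_mem _
  have hxN : x ∈ N := by
    have hxp := h.c_comm hp hx.1
    have key : ∀ w ∈ K U p, x * w * x⁻¹ = w ∨ x * w * x⁻¹ = p * w := by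
      intro w hw
      by_cases hwU : w ∈ U p
      · exact ((h.mem_Q_iff hp).mp hx).2 w hwU
      · -- `w = k * u`
        have hu : k⁻¹ * w ∈ U p := mul_mem_U h hp hK (inv_mem hk) hw (fun h1 => hkU (inv_mem_iff.mp h1)) hwU
        have e : w = k * (k⁻¹ * w) := by group
        have e2 : x * w * x⁻¹ = (x * k * x⁻¹) * (x * (k⁻¹ * w) * x⁻¹) := by group
        rcases hxk with h1 | h1 <;> rcases ((h.mem_Q_iff hp).mp hx).2 _ hu with h2 | h2
        · left; rw [e2, h1, h2, ← e]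
        · right
          rw [e2, h1, h2, ← mul_assoc, hpK k hk]
          group
        · right; rw [e2, h1, h2, mul_assoc, ← e]
        · left
          rw [e2, h1, h2]
          calc p * k * (p * (k⁻¹ * w)) = p * (k * p) * (k⁻¹ * w) := by group
            _ = (p * p) * w := by rw [hpK k hk]; group
            _ = w := by rw [hpp, one_mul]
    refine ⟨hx, hxp, fun w hw => ?_, fun w hw => ?_⟩
    · rcases key w hw with h1 | h1
      · rw [h1, mul_inv_cancel]; exact one_mem _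
      · rw [h1, mul_inv_cancel_right]; exact mem_zpowers p
    · have hw' := conj_mem_K h hp (inv_mem hx.1) hw
      rw [inv_inv] at hw'
      have e : x⁻¹ * w * x * w⁻¹ = (x * (x⁻¹ * w * x) * x⁻¹ * (x⁻¹ * w * x)⁻¹)⁻¹ := by group
      rw [e]
      refine inv_mem ?_
      rcases key _ hw' with h1 | h1
      · rw [h1, mul_inv_cancel]; exact one_mem _
      · rw [h1, mul_inv_cancel_right]; exact mem_zpowers p
  rcases irred h hp hf hKN hNQ hNinv with h1 | h1
  · rw [← h1]; exact hxN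
  · exfalso
    obtain ⟨k0, hk0, hk0U, hfk0⟩ := exists_kf h hp hK hf
    have hQk0 : ∀ y ∈ Q U C p, y⁻¹ * k0 * y = k0 ∨ y⁻¹ * k0 * y = p * k0 := by
      intro y hy
      rw [← h1] at hy
      rcases (mem_zpowers_iff_of_mul_self hpp).mp (hy.2.2.2 k0 hk0) with e | e
      · left; exact mul_inv_eq_one.mp e
      · right; exact mul_inv_eq_iff_eq_mul.mp e
    have hfp := h.c_comm hp hf.mem
    have hfi : ∀ n : ℕ, f ^ n * k0 * (f ^ n)⁻¹ = k0 := by
      intro n
      induction n with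
      | zero => simp
      | succ n ih =>
        have e : f ^ (n + 1) * k0 * (f ^ (n + 1))⁻¹ = f ^ n * (f * k0 * f⁻¹) * (f ^ n)⁻¹ := by
          rw [pow_succ]; group
        rw [e, hfk0, ih]
    have hfpi : ∀ n : ℕ, f ^ n * p * (f ^ n)⁻¹ = p := by
      intro n
      have h2 : Commute (f ^ n) p := (show Commute f p from hfp).pow_left n
      rw [h2.eq, mul_inv_cancel_right]
    have hodd : ∀ g ∈ C p, Odd (orderOf g) → g * k0 = k0 * g := by
      intro g hg ho
      obtain ⟨y, hy, n, rfl⟩ := exists_conj_of_odd h hp hf hg ho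
      have h2 : f ^ n * (y⁻¹ * k0 * y) * (f ^ n)⁻¹ = y⁻¹ * k0 * y := by
        rcases hQk0 y hy with h3 | h3
        · rw [h3, hfi]
        · rw [h3]
          have e : f ^ n * (p * k0) * (f ^ n)⁻¹ = (f ^ n * p * (f ^ n)⁻¹) * (f ^ n * k0 * (f ^ n)⁻¹) := by group
          rw [e, hfi, hfpi]
      calc y * f ^ n * y⁻¹ * k0 = y * (f ^ n * (y⁻¹ * k0 * y) * (f ^ n)⁻¹) * f ^ n * y⁻¹ := by group
        _ = y * (y⁻¹ * k0 * y) * f ^ n * y⁻¹ := by rw [h2]
        _ = k0 * (y * f ^ n * y⁻¹) := by group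
    have hX : ∀ x ∈ oddGen (C p), x * k0 = k0 * x := by
      have h2 : oddGen (C p) ≤ centralizer ({k0} : Set G) := by
        unfold oddGen
        rw [closure_le]
        rintro g ⟨hg, ho⟩
        exact mem_centralizer_singleton_iff.mpr (hodd g hg ho)
      exact fun x hx => mem_centralizer_singleton_iff.mp (h2 hx)
    rcases eq_of_cent_X h hp hk0 hX with h2 | h2
    · exact hk0U (by rw [h2]; exact one_mem _)
    · exact hk0U (by rw [h2]; exact h.V_le p hp hp.1)

end Cfsg.Agent.Omega.TitsAmal.TriB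

end

section


/-!
# Case B of the Tits end, (B2): the squares of the elements of `Q_p` are in `U_p`
-/

set_option autoImplicit false
set_option linter.style.haveILetI false

namespace Cfsg.Agent.Omega.TitsAmal.TriB

open Subgroup Cfsg Cfsg.Agent.ZN Cfsg.Agent.MinSimple.Geo
open Cfsg.Agent.Classification.TitsFin
open Cfsg.Agent.Omega.TitsAmal.Tri (Pt kst K Q cj_kst kst_le)
open Cfsg.Agent.Omega.TitsAmal.TriAct Cfsg.Agent.Omega.TitsAmal.TriQK
open Cfsg.Agent.Omega.TitsAmal.TriTen Cfsg.Agent.Classification.TitsFin.TriBSec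
open Cfsg.Agent.MinSimple.VModule (oddGen)
open Cfsg.Agent.ZN.Block (card_mul_relIndex' mul_mem_of_relIndex_two)

universe u

variable {G : Type u} [Group G] {V : Subgroup G} {U C : G → Subgroup G} {p q : G}

theorem sq_mem_K (h : Tri V U C) (hp : Pt V p) {x : G} (hx : x ∈ Q U C p) : x * x ∈ K U p := by
  rw [mem_centralizer_iff]
  intro u hu
  have hxp := h.c_comm hp hx.1
  have hpp := h.pp hp
  have h1 : x * x * u * (x * x)⁻¹ = u := by
    have e : x * x * u * (x * x)⁻¹ = x * (x * u * x⁻¹) * x⁻¹ := by group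
    rw [e]
    rcases ((h.mem_Q_iff hp).mp hx).2 u hu with h2 | h2
    · rw [h2, h2]
    · rw [h2]
      have e2 : x * (p * u) * x⁻¹ = (x * p) * x⁻¹ * (x * u * x⁻¹) := by group
      rw [e2, hxp, mul_inv_cancel_right, h2, ← mul_assoc, hpp, one_mul]
  calc u * (x * x) = (x * x * u * (x * x)⁻¹) * (x * x) := by rw [h1]
    _ = x * x * u := by group

theorem comm_Q_mem_K (h : Tri V U C) (hp : Pt V p) {x y : G} (hx : x ∈ Q U C p) (hy : y ∈ Q U C p) :
    x * y * x⁻¹ * y⁻¹ ∈ K U p :=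
  TriBO.comm_mem (Q := Q U C p) (fun _ hx => sq_mem_K h hp hx) (fun _ hc _ hu => conj_mem_K h hp hc.1 hu) hx hy

variable [Finite G]

/-- `f` acts nontrivially on `Q_p / K_p` -/
theorem f_nontrivial (h : Tri V U C) (hp : Pt V p) (hq : Pt V q) (hpq : p ≠ q) {f : G} (hf : IsF U C p f) :
    ∃ x ∈ Q U C p, f * x * f⁻¹ * x⁻¹ ∉ K U p := by
  by_contra hcon
  push Not at hcon
  have hqU : q ∈ U p := h.V_le p hp hq.1
  obtain ⟨c, hc, hcq⟩ := exists_move h hp hqU hq.2 (Ne.symm hpq)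
  have f5 := pow_five h hp hf
  have hfp := h.c_comm hp hf.mem
  have hcp := h.c_comm hp hc.1
  have hpp := h.pp hp
  have hfiC : ∀ i : ℕ, f ^ i ∈ C p := fun i => pow_mem hf.mem i
  have hfiU : ∀ i : ℕ, f ^ i * q * (f ^ i)⁻¹ ∈ U p := fun i => h.conj_memU hp (hfiC i) hqU
  -- `c` moves all `q ^ (f ^ i)`
  have hci : ∀ i : ℕ, c * (f ^ i * q * (f ^ i)⁻¹) * c⁻¹ = p * (f ^ i * q * (f ^ i)⁻¹) := by
    intro i
    induction i with
    | zero => simpa using hcq
    | succ n ih =>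
      set w := f ^ n * q * (f ^ n)⁻¹ with hw
      have e0 : f ^ (n + 1) * q * (f ^ (n + 1))⁻¹ = f * w * f⁻¹ := by
        rw [hw, pow_succ']; group
      rw [e0]
      have hwU : w ∈ U p := hfiU n
      have hfw : f * w * f⁻¹ ∈ U p := h.conj_memU hp hf.mem hwU
      have hk := hcon c hc
      -- `f c f⁻¹ = k c`
      set k := f * c * f⁻¹ * c⁻¹ with hkdef
      have e1 : c * (f * w * f⁻¹) * c⁻¹ = k⁻¹ * (f * (c * w * c⁻¹) * f⁻¹) * k := by
        rw [hkdef]; group
      rw [e1, ih]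
      have e2 : f * (p * w) * f⁻¹ = p * (f * w * f⁻¹) := by
        calc f * (p * w) * f⁻¹ = (f * p) * w * f⁻¹ := by group
          _ = p * (f * w * f⁻¹) := by rw [hfp]; group
      rw [e2]
      have h3 := mem_centralizer_iff.mp hk _ (mul_mem (h.V_le p hp hp.1) hfw)
      rw [mul_assoc, h3, inv_mul_cancel_left]
  set z := q * (f ^ 1 * q * (f ^ 1)⁻¹) * (f ^ 2 * q * (f ^ 2)⁻¹) * (f ^ 3 * q * (f ^ 3)⁻¹) *
    (f ^ 4 * q * (f ^ 4)⁻¹) with hz
  have hzU : z ∈ U p := mul_mem (mul_mem (mul_mem (mul_mem hqU (hfiU 1)) (hfiU 2)) (hfiU 3)) (hfiU 4)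
  have hfz : f * z * f⁻¹ = z := by
    have e6 : f * z * f⁻¹ = (f ^ 1 * q * (f ^ 1)⁻¹) * (f ^ 2 * q * (f ^ 2)⁻¹) * (f ^ 3 * q * (f ^ 3)⁻¹) *
        (f ^ 4 * q * (f ^ 4)⁻¹) * (f ^ 5 * q * (f ^ 5)⁻¹) := by
      rw [hz]; group
    have e5 : f ^ 5 * q * (f ^ 5)⁻¹ = q := by rw [f5]; group
    rw [e6, e5, hz]
    have h4 := h.commU hp (mul_mem (mul_mem (mul_mem (hfiU 1) (hfiU 2)) (hfiU 3)) (hfiU 4)) hqU
    rw [h4]
    simp only [mul_assoc]
  have hz1 : c * z * c⁻¹ = z := by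
    rcases IsF.fixed h hp hf hzU (Or.inl hfz) with h1 | h1
    · rw [h1]; group
    · rw [h1, hcp, mul_inv_cancel_right]
  have hz2 : c * z * c⁻¹ = p * z := by
    have e : c * z * c⁻¹ = (c * q * c⁻¹) * (c * (f ^ 1 * q * (f ^ 1)⁻¹) * c⁻¹) *
        (c * (f ^ 2 * q * (f ^ 2)⁻¹) * c⁻¹) * (c * (f ^ 3 * q * (f ^ 3)⁻¹) * c⁻¹) *
        (c * (f ^ 4 * q * (f ^ 4)⁻¹) * c⁻¹) := by
      rw [hz]; group
    rw [e, hcq, hci 1, hci 2, hci 3, hci 4, hz]
    have hpc : ∀ w ∈ U p, ∀ v : G, w * (p * v) = p * (w * v) := fun w hw v => by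
      rw [← mul_assoc, h.commU hp hw (h.V_le p hp hp.1), mul_assoc]
    have hpp' : ∀ v : G, p * (p * v) = v := fun v => by rw [← mul_assoc, hpp, one_mul]
    simp only [mul_assoc]
    simp only [hpc _ hqU, hpp']
    have g1 := hpc _ (hfiU 1)
    have g2 := hpc _ (hfiU 2)
    have g3 := hpc _ (hfiU 3)
    simp only [mul_assoc] at g1 g2 g3
    have g1' : ∀ v, f ^ 1 * (q * ((f ^ 1)⁻¹ * (p * v))) = p * (f ^ 1 * (q * ((f ^ 1)⁻¹ * v))) := g1
    have g2' : ∀ v, f ^ 2 * (q * ((f ^ 2)⁻¹ * (p * v))) = p * (f ^ 2 * (q * ((f ^ 2)⁻¹ * v))) := g2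
    have g3' : ∀ v, f ^ 3 * (q * ((f ^ 3)⁻¹ * (p * v))) = p * (f ^ 3 * (q * ((f ^ 3)⁻¹ * v))) := g3
    rw [g1', g2', g3', g1', g2', g1', hpp']
    exact hpc _ hqU _
  rw [hz1] at hz2
  exact hp.2 (right_eq_mul.mp hz2)

/-- `f` acts without fixed points on `Q_p / K_p` -/
theorem fix_Q (h : Tri V U C) (hp : Pt V p) (hq : Pt V q) (hpq : p ≠ q) {f : G} (hf : IsF U C p f) {x : G}
    (hx : x ∈ Q U C p) (hfx : f * x * f⁻¹ * x⁻¹ ∈ K U p) : x ∈ K U p := by
  obtain ⟨x0, hx0, hx0'⟩ := f_nontrivial h hp hq hpq hf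
  let N : Subgroup G :=
    { carrier := {x | x ∈ Q U C p ∧ f * x * f⁻¹ * x⁻¹ ∈ K U p}
      mul_mem' := by
        rintro a b ⟨ha, ha'⟩ ⟨hb, hb'⟩
        refine ⟨mul_mem ha hb, ?_⟩
        have h1 := mul_mem ha' (conj_mem_K h hp ha.1 hb')
        have e : f * a * f⁻¹ * a⁻¹ * (a * (f * b * f⁻¹ * b⁻¹) * a⁻¹) = f * (a * b) * f⁻¹ * (a * b)⁻¹ := by
          group
        rwa [e] at h1
      one_mem' := ⟨one_mem _, by simp⟩
      inv_mem' := by
        rintro a ⟨ha, ha'⟩
        refine ⟨inv_mem ha, ?_⟩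
        have h1 := conj_mem_K h hp (inv_mem ha.1) (inv_mem ha')
        have e : a⁻¹ * (f * a * f⁻¹ * a⁻¹)⁻¹ * a⁻¹⁻¹ = f * a⁻¹ * f⁻¹ * a⁻¹⁻¹ := by group
        rwa [e] at h1 }
  have hKN : K U p ≤ N := fun k hk =>
    ⟨h.K_le_Q hp hk, mul_mem (conj_mem_K h hp hf.mem hk) (inv_mem hk)⟩
  have hNQ : N ≤ Q U C p := fun x hx => hx.1
  have hinv : ∀ b ∈ N, f * b * f⁻¹ ∈ N := by
    rintro b ⟨hb, hb'⟩
    refine ⟨conj_mem_Q h hp hf.mem hb, ?_⟩
    have h1 := conj_mem_K h hp hf.mem hb'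
    have e : f * (f * b * f⁻¹ * b⁻¹) * f⁻¹ = f * (f * b * f⁻¹) * f⁻¹ * (f * b * f⁻¹)⁻¹ := by group
    rwa [e] at h1
  rcases irred h hp hf hKN hNQ hinv with h1 | h1
  · rw [← h1]; exact ⟨hx, hfx⟩
  · exfalso
    rw [← h1] at hx0
    exact hx0' hx0.2

/-- `K_q ⊓ Q_p` has index at most 2 in `K_q` -/
theorem card_KQ (h : Tri V U C) (hp : Pt V p) (hq : Pt V q) (hK : Nat.card ↥(K U q) = 64) :
    32 ≤ Nat.card ↥(K U q ⊓ Q U C p) := by
  have key : ∀ a ∈ K U q, ∀ b ∈ K U q, a ∉ Q U C p → b ∉ Q U C p → a * b ∈ Q U C p := by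
    intro a ha b hb haQ hbQ
    have hsq : ∀ k ∈ K U q, k * k ∈ Q U C p := by
      intro k hk
      have h1 : k * k ∈ U p := by
        rcases sq_K h hq hk with e | e
        · rw [e]; exact one_mem _
        · rw [e]; exact h.V_le p hp hq.1
      exact h.K_le_Q hp (h.U_le_K hp h1)
    obtain ⟨n, hn⟩ := (isPGroup_K h hq) ⟨a * b, mul_mem ha hb⟩
    refine mul_mem_Q h hp (h.K_le_C hp hq ha) (h.K_le_C hp hq hb) (hsq a ha) (hsq b hb) haQ hbQ (n := n) ?_
    have h2 := congrArg Subtype.val hn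
    have h3 : (a * b) ^ 2 ^ n = 1 := h2
    rw [h3]; exact one_mem _
  set D := (K U q ⊓ Q U C p) with hD
  have h1 := card_mul_relIndex' (show D ≤ K U q from inf_le_left)
  rw [hK] at h1
  have h2 : D.relIndex (K U q) ≤ 2 := by
    by_cases hall : ∀ a ∈ K U q, a ∈ Q U C p
    · have : D.relIndex (K U q) = 1 := relIndex_eq_one.mpr fun a ha => ⟨ha, hall a ha⟩
      omega
    · push Not at hall
      obtain ⟨a, ha, haQ⟩ := hall
      have : (D.subgroupOf (K U q)).index = 2 := by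
        rw [Subgroup.index_eq_two_iff]
        refine ⟨⟨a, ha⟩, fun b => ?_⟩
        by_cases hb : (b : G) ∈ Q U C p
        · right
          refine ⟨mem_subgroupOf.mpr ⟨b.2, hb⟩, fun h3 => haQ ?_⟩
          have h4 := (mem_subgroupOf.mp h3).2
          have e : (b : G)⁻¹ * ((b * ⟨a, ha⟩ : K U q) : G) = a := by
            push_cast; group
          rw [← e]
          exact mul_mem (inv_mem hb) h4
        · left
          refine ⟨mem_subgroupOf.mpr ⟨mul_mem b.2 ha, key _ b.2 _ ha hb haQ⟩, fun h3 => hb ?_⟩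
          exact (mem_subgroupOf.mp h3).2
      exact this.le
  nlinarith

/-- (B2) -/
theorem sq_mem_U (h : Tri V U C) (hp : Pt V p) (hq : Pt V q) (hpq : p ≠ q) (hK : Nat.card ↥(K U p) = 64)
    {x : G} (hx : x ∈ Q U C p) : x * x ∈ U p := by
  have hKq := card_K_all h hp hq hK
  obtain ⟨f, hf⟩ := exists_isF h hp
  have f5 := pow_five h hp hf
  obtain ⟨t, htU, htQ⟩ := h.exists_t hp hq hpq
  have htC : t ∈ C p := h.U_le_C hp hq htU
  have htt := h.sqU q hq t htU
  have hKQ := h.K_le_Q hp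
  obtain ⟨M, instM, μ, hμ⟩ := exists_section (Q U C p) (K U p)
    (fun x hx y hy => comm_Q_mem_K h hp hx hy)
  have hM : Nat.card M = 16 := by rw [hμ.card]; exact relIndex_K h hp
  haveI : Finite M := Nat.finite_of_card_ne_zero (by rw [hM]; norm_num)
  have sq : ∀ m : M, m * m = 1 := by
    intro m
    obtain ⟨x, hx, rfl⟩ := hμ.surj m
    rw [← hμ.mul x hx x hx, hμ.ker _ (mul_mem hx hx)]
    exact sq_mem_K h hp hx
  have aut : ∀ c ∈ C p, ∃ s : MulAut M, ∀ x ∈ Q U C p, s (μ x) = μ (c * x * c⁻¹) := by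
    intro c hc
    refine hμ.exists_aut (fun x hx => conj_mem_Q h hp hc hx) (fun x hx => ?_)
      (fun x hx => conj_mem_K h hp hc hx) (fun x hx => ?_)
    · have := conj_mem_Q h hp (inv_mem hc) hx
      rwa [inv_inv] at this
    · have := conj_mem_K h hp (inv_mem hc) hx
      rwa [inv_inv] at this
  obtain ⟨F, hF⟩ := aut f hf.mem
  obtain ⟨T, hT⟩ := aut t htC
  have hFn : ∀ (n : ℕ), ∀ x ∈ Q U C p, (F ^ n) (μ x) = μ (f ^ n * x * (f ^ n)⁻¹) := by
    intro n
    induction n with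
    | zero => intro x hx; rw [pow_zero, pow_zero, one_mul, inv_one, mul_one]; rfl
    | succ n ih =>
      intro x hx
      rw [pow_succ, Cfsg.Agent.Classification.TitsFin.Mod16.mul_apply, hF x hx, ih _ (conj_mem_Q h hp hf.mem hx)]
      congr 1
      rw [pow_succ]
      group
  have F5 : F ^ 5 = 1 := by
    ext m
    obtain ⟨x, hx, rfl⟩ := hμ.surj m
    rw [hFn 5 x hx, f5, one_mul, inv_one, mul_one]
    rfl
  have F1 : F ≠ 1 := by
    intro h1
    obtain ⟨x0, hx0, hx0'⟩ := f_nontrivial h hp hq hpq hf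
    apply hx0'
    have h2 := hF x0 hx0
    rw [h1] at h2
    have h3 : μ x0 = μ (f * x0 * f⁻¹) := h2
    rw [eq_comm, hμ.eq_iff (conj_mem_Q h hp hf.mem hx0) hx0] at h3
    have h4 := conj_mem_K h hp hx0.1 (inv_mem h3)
    have e : x0 * ((f * x0 * f⁻¹)⁻¹ * x0)⁻¹ * x0⁻¹ = f * x0 * f⁻¹ * x0⁻¹ := by group
    rwa [e] at h4
  have TT : T * T = 1 := by
    ext m
    obtain ⟨x, hx, rfl⟩ := hμ.surj m
    rw [Cfsg.Agent.Classification.TitsFin.Mod16.mul_apply, hT x hx, hT _ (conj_mem_Q h hp htC hx)]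
    have e : t * (t * x * t⁻¹) * t⁻¹ = (t * t) * x * (t * t)⁻¹ := by group
    rw [e, htt, one_mul, inv_one, mul_one]
    rfl
  have Tinv : T⁻¹ = T := inv_eq_of_mul_eq_one_left TT
  have htinv : t⁻¹ = t := inv_eq_of_mul_eq_one_left htt
  have TFT : T * F * T⁻¹ = F⁻¹ := by
    rw [eq_inv_iff_mul_eq_one, Tinv]
    ext m
    obtain ⟨x, hx, rfl⟩ := hμ.surj m
    have h1 := conj_mem_Q h hp hf.mem hx
    have h2 := conj_mem_Q h hp htC h1
    have h3 := conj_mem_Q h hp hf.mem h2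
    rw [Cfsg.Agent.Classification.TitsFin.Mod16.mul_apply, Cfsg.Agent.Classification.TitsFin.Mod16.mul_apply, Cfsg.Agent.Classification.TitsFin.Mod16.mul_apply, hF x hx, hT _ h1, hF _ h2, hT _ h3]
    have hy : t * f * t⁻¹ * f ∈ Q U C p := IsF.inv_of_sq h hp hf htC (by rw [htt]; exact one_mem _) htQ
    rw [MulAut.one_apply, hμ.eq_iff (conj_mem_Q h hp htC h3) hx]
    have h4 := comm_Q_mem_K h hp hy (inv_mem hx)
    have e : (t * (f * (t * (f * x * f⁻¹) * t⁻¹) * f⁻¹) * t⁻¹)⁻¹ * x =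
        (t * f * t * f) * x⁻¹ * (t * f * t * f)⁻¹ * x⁻¹⁻¹ := by group
    rw [e]
    rwa [htinv] at h4
  -- `fx T` is the image of `K_q ⊓ Q_p`
  have himg : ∀ m ∈ Cfsg.Agent.Classification.TitsFin.Mod16.fx T, ∃ a ∈ K U q ⊓ Q U C p, μ a = m := by
    let ψ : ↥(K U q ⊓ Q U C p) →* M :=
      { toFun := fun a => μ a
        map_one' := hμ.one
        map_mul' := fun a b => hμ.mul _ a.2.2 _ b.2.2 }
    have h1 : ψ.range ≤ Cfsg.Agent.Classification.TitsFin.Mod16.fx T := by
      rintro _ ⟨a, rfl⟩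
      rw [Cfsg.Agent.Classification.TitsFin.Mod16.mem_fx]
      change T (μ a) = μ a
      rw [hT _ a.2.2, mem_centralizer_iff.mp a.2.1 t htU, mul_inv_cancel_right]
    have h2 : Nat.card ψ.ker ≤ 8 := by
      rw [← card_E h hp hq hpq]
      refine Nat.card_le_card_of_injective
        (fun a : ψ.ker => (⟨a.1.1, ?_⟩ : ↥(U p ⊓ U q))) ?_
      · rw [← K_inf_K h hp hq hpq]
        exact ⟨(hμ.ker _ a.1.2.2).mp a.2, a.1.2.1⟩
      · intro a b hab
        have h9 : (a.1.1 : G) = b.1.1 := congrArg (fun z : ↥(U p ⊓ U q) => (z : G)) hab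
        exact Subtype.ext (Subtype.ext h9)
    have h3 : Nat.card ψ.range * Nat.card ψ.ker = Nat.card ↥(K U q ⊓ Q U C p) := by
      rw [← Subgroup.index_ker ψ, mul_comm]
      exact Subgroup.card_mul_index _
    have h4 := card_KQ h hp hq hKq
    have h5 := Cfsg.Agent.Classification.TitsFin.Mod16.card_fx hM sq F5 F1 TT TFT
    have h6 : ψ.range = Cfsg.Agent.Classification.TitsFin.Mod16.fx T := by
      refine Subgroup.eq_of_le_of_card_ge h1 ?_
      rw [h5]
      nlinarith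
    intro m hm
    rw [← h6] at hm
    obtain ⟨a, ha⟩ := hm
    exact ⟨a, a.2, ha⟩
  obtain ⟨k, -, m, hm, hkm⟩ := Cfsg.Agent.Classification.TitsFin.Mod16.spread hM sq F5 F1 TT TFT (μ x)
  obtain ⟨a, ha, rfl⟩ := himg m hm
  rw [hFn k a ha.2] at hkm
  have haQ := ha.2
  have hfk : f ^ k ∈ C p := pow_mem hf.mem k
  have hb := conj_mem_Q h hp hfk haQ
  rw [hμ.eq_iff hb hx] at hkm
  set b := f ^ k * a * (f ^ k)⁻¹ with hbdef
  have haa : a * a ∈ U p := by
    rcases sq_K h hq ha.1 with e | e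
    · rw [e]; exact one_mem _
    · rw [e]; exact h.V_le p hp hq.1
  have hbb : b * b ∈ U p := by
    have h1 := h.conj_memU hp hfk haa
    have e : f ^ k * (a * a) * (f ^ k)⁻¹ = b * b := by rw [hbdef]; group
    rwa [e] at h1
  set κ := b⁻¹ * x with hκ
  have e : x * x = b * b * ((b⁻¹ * κ * b * κ⁻¹) * (κ * κ)) := by rw [hκ]; group
  rw [e]
  refine mul_mem hbb (mul_mem ?_ ?_)
  · have h1 := comm_K_C h hp hK hkm (inv_mem hb.1)
    rwa [inv_inv] at h1
  · rcases sq_K h hp hkm with e | e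
    · rw [e]; exact one_mem _
    · rw [e]; exact h.V_le p hp hp.1

end Cfsg.Agent.Omega.TitsAmal.TriB

end

section


/-!
# Case B of the Tits end, (B3'): the subgroup `N` of index 2 in `C_p`
-/

set_option autoImplicit false
set_option linter.style.haveILetI false
set_option linter.unusedSectionVars false

namespace Cfsg.Agent.Omega.TitsAmal.TriB

open Subgroup Cfsg Cfsg.Agent.ZN Cfsg.Agent.MinSimple.Geo
open Cfsg.Agent.Classification.TitsFin
open Cfsg.Agent.Omega.TitsAmal.Tri (Pt kst K Q cj_kst kst_le)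
open Cfsg.Agent.Omega.TitsAmal.TriAct Cfsg.Agent.Omega.TitsAmal.TriQK
open Cfsg.Agent.Omega.TitsAmal.TriTen Cfsg.Agent.Classification.TitsFin.TriBSec
open Cfsg.Agent.MinSimple.VModule (oddGen)
open Cfsg.Agent.ZN.Block (card_mul_relIndex' mul_mem_of_relIndex_two)

universe u

variable {G : Type u} [Group G] [Finite G] {V : Subgroup G} {U C : G → Subgroup G} {p q : G}

theorem U_le_Q (h : Tri V U C) (hp : Pt V p) : U p ≤ Q U C p := (h.U_le_K hp).trans (h.K_le_Q hp)

/-- an element of `Q_p ⊓ C_G(V)` of order 4 modulo `Q_q`, moving `E` -/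
theorem exists_x (h : Tri V U C) (hp : Pt V p) (hq : Pt V q) (hpq : p ≠ q) :
    ∃ x ∈ Q U C p, x ∈ centralizer (V : Set G) ∧ x * x ∉ Q U C q := by
  obtain ⟨c, hc, hcV, e, he, hce⟩ := exists_move_E h hp hq hpq
  have hep : e * p = p * e := h.commU hp he.1 (h.V_le p hp hp.1)
  -- an element of `Q_q` does not move `e` to `p e`
  have key : ∀ y ∈ Q U C q, y * e * y⁻¹ ≠ p * e := by
    intro y hy h1
    rcases ((h.mem_Q_iff hq).mp hy).2 e he.2 with h2 | h2
    · rw [h2] at h1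
      exact hp.2 (right_eq_mul.mp h1)
    · rw [h2] at h1
      exact hpq (mul_right_cancel h1).symm
  refine ⟨c, hc, hcV, fun hcc => ?_⟩
  have hcQ : c ∉ Q U C q := fun h1 => key c h1 hce
  obtain ⟨t, ht, htQ⟩ := h.exists_t hq hp hpq.symm
  have htt := h.sqU p hp t ht
  have htV := h.U_le_centV hp ht
  obtain ⟨n, hn⟩ := (isPGroup_centV h hp) ⟨c * t, mul_mem hcV htV⟩
  have hn' : (c * t) ^ 2 ^ n = 1 := congrArg Subtype.val hn
  have h1 : c * t ∈ Q U C q := mul_mem_Q h hq (h.centV_le hq hcV) (h.centV_le hq htV) hcc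
    (by rw [htt]; exact one_mem _) hcQ htQ (n := n) (by rw [hn']; exact one_mem _)
  refine key _ h1 ?_
  have hte : t * e = e * t := h.commU hp ht he.1
  calc c * t * e * (c * t)⁻¹ = c * (t * e) * t⁻¹ * c⁻¹ := by group
    _ = c * e * c⁻¹ := by rw [hte]; group
    _ = p * e := hce

/-- multipliers -/
def Mul (U C : G → Subgroup G) (p f c : G) (a : ℕ) : Prop := c ∈ C p ∧ c * f * c⁻¹ * (f ^ a)⁻¹ ∈ Q U C p

theorem Mul.mul (h : Tri V U C) (hp : Pt V p) {f c d : G} (hf : IsF U C p f) {a b : ℕ} (hc : Mul U C p f c a)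
    (hd : Mul U C p f d b) : Mul U C p f (c * d) (a * b) := by
  refine ⟨mul_mem hc.1 hd.1, ?_⟩
  -- `d f d⁻¹ = y f ^ b`, `c f c⁻¹ = z f ^ a`
  set y := d * f * d⁻¹ * (f ^ b)⁻¹ with hy
  set z := c * f * c⁻¹ * (f ^ a)⁻¹ with hz
  have h1 : c * y * c⁻¹ ∈ Q U C p := conj_mem_Q h hp hc.1 hd.2
  have h2 : ∀ n : ℕ, (z * f ^ a) ^ n * (f ^ (a * n))⁻¹ ∈ Q U C p := by
    intro n
    induction n with
    | zero => simp
    | succ n ih =>
      have h3 : f ^ (a * n) * z * (f ^ (a * n))⁻¹ ∈ Q U C p :=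
        conj_mem_Q h hp (pow_mem hf.mem _) hc.2
      have e : (z * f ^ a) ^ (n + 1) * (f ^ (a * (n + 1)))⁻¹ =
          ((z * f ^ a) ^ n * (f ^ (a * n))⁻¹) * (f ^ (a * n) * z * (f ^ (a * n))⁻¹) := by
        rw [pow_succ, mul_add, mul_one, pow_add]
        group
      rw [e]
      exact mul_mem ih h3
  have e1 : z * f ^ a = c * f * c⁻¹ := by rw [hz]; group
  have h3 := mul_mem h1 (h2 b)
  have e : c * y * c⁻¹ * ((z * f ^ a) ^ b * (f ^ (a * b))⁻¹) = c * d * f * (c * d)⁻¹ * (f ^ (a * b))⁻¹ := by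
    rw [e1, conj_pow, hy]
    group
  rwa [e] at h3

theorem Mul.congr (h : Tri V U C) (hp : Pt V p) {f c : G} (hf : IsF U C p f) {a b : ℕ} (hc : Mul U C p f c a)
    (hab : a % 5 = b % 5) : Mul U C p f c b := by
  have f5 := pow_five h hp hf
  have e : ∀ n : ℕ, f ^ n = f ^ (n % 5) := by
    intro n
    conv_lhs => rw [← Nat.div_add_mod n 5, pow_add, pow_mul, f5, one_pow, one_mul]
  refine ⟨hc.1, ?_⟩
  rw [e b, ← hab, ← e a]
  exact hc.2

theorem Mul.pow (h : Tri V U C) (hp : Pt V p) {f c : G} (hf : IsF U C p f) {a : ℕ} (hc : Mul U C p f c a)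
    (n : ℕ) : Mul U C p f (c ^ n) (a ^ n) := by
  induction n with
  | zero => exact ⟨by simp, by simp⟩
  | succ n ih =>
    rw [pow_succ, pow_succ]
    exact Mul.mul h hp hf ih hc

theorem exists_Mul (h : Tri V U C) (hp : Pt V p) {f c : G} (hf : IsF U C p f) (hc : c ∈ C p) :
    ∃ a, (a = 1 ∨ a = 2 ∨ a = 3 ∨ a = 4) ∧ Mul U C p f c a := by
  obtain ⟨k, h1, h2, h3⟩ := IsF.normal h hp hf hc
  exact ⟨k, by omega, hc, h3⟩

/-- `C(f mod Q_p) = ⟨f⟩ Q_p` -/
theorem cent_f (h : Tri V U C) (hp : Pt V p) {f c : G} (hf : IsF U C p f) (hc : Mul U C p f c 1) :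
    ∃ j : ℕ, f ^ j * c ∈ Q U C p := by
  have f5 := pow_five h hp hf
  obtain ⟨A, hAC, hQA, fA, hA⟩ := TriBO.exists_ext (A := Q U C p) (C := C p) (s := f) (kst_le _ _ _) hf.mem
    (n := 5) (by norm_num) (by rw [f5]; exact one_mem _) (fun a ha => conj_mem_Q h hp hf.mem ha)
  obtain ⟨a, m, hm, hn⟩ := Nat.exists_eq_pow_mul_and_not_dvd (n := orderOf c) (orderOf_pos c).ne' 2
    (by norm_num)
  have hmodd : Odd m := Nat.not_even_iff_odd.mp fun h1 => hm h1.two_dvd
  -- the 2-part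
  have h1 : c ^ m ∈ Q U C p := by
    have hc1 := Mul.pow h hp hf hc m
    rw [one_pow] at hc1
    refine IsF.mem_Q_of_comm h hp hf hc1.1 (n := a) ?_ ?_
    · rw [← pow_mul, mul_comm, ← hn, pow_orderOf_eq_one]; exact one_mem _
    · have := hc1.2
      rwa [pow_one] at this
  -- the odd part
  have h2 : c ^ 2 ^ a ∈ A := by
    have ho : Odd (orderOf (c ^ 2 ^ a)) := by
      have h3 : orderOf (c ^ 2 ^ a) = m := by
        rw [orderOf_pow, hn, Nat.gcd_eq_right (Dvd.intro _ rfl), Nat.mul_div_cancel_left _ (by positivity)]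
      rw [h3]; exact hmodd
    obtain ⟨k, -, hk⟩ := IsF.of_odd h hp hf (pow_mem hc.1 _) ho
    have h3 := mul_mem (hQA hk) (pow_mem fA k)
    rwa [inv_mul_cancel_right] at h3
  have h3 : c ∈ A := by
    have hcop : Nat.gcd m (2 ^ a) = 1 := Nat.Coprime.pow_right a (Nat.coprime_two_right.mpr hmodd)
    have e : (1 : ℤ) = m * Nat.gcdA m (2 ^ a) + (2 ^ a : ℕ) * Nat.gcdB m (2 ^ a) := by
      rw [← Nat.gcd_eq_gcd_ab, hcop]; rfl
    have e2 : c = (c ^ m) ^ (Nat.gcdA m (2 ^ a)) * (c ^ 2 ^ a) ^ (Nat.gcdB m (2 ^ a)) := by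
      conv_lhs => rw [← zpow_one c, e, zpow_add, zpow_mul, zpow_mul, zpow_natCast, zpow_natCast]
    rw [e2]
    exact mul_mem (zpow_mem (hQA h1) _) (zpow_mem h2 _)
  exact ((hA c).mp h3).2

/-- a 2-element with multiplier 1 is in `Q_p` -/
theorem mem_Q_of_Mul_one (h : Tri V U C) (hp : Pt V p) {f c : G} (hf : IsF U C p f) (hc : Mul U C p f c 1)
    {n : ℕ} (hn : c ^ 2 ^ n ∈ Q U C p) : c ∈ Q U C p := by
  refine IsF.mem_Q_of_comm h hp hf hc.1 hn ?_
  have := hc.2
  rwa [pow_one] at this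

/-- if `s ^ 4 = 1` and `s * s ∉ Q_p`, then the multiplier of `s` is 2 or 3 -/
theorem Mul_of_sq (h : Tri V U C) (hp : Pt V p) {f s : G} (hf : IsF U C p f) (hs : s ∈ C p) (s4 : s ^ 4 = 1)
    (hss : s * s ∉ Q U C p) : Mul U C p f s 2 ∨ Mul U C p f s 3 := by
  have h4 : s ^ 2 ^ 2 ∈ Q U C p := by
    rw [show 2 ^ 2 = 4 from rfl, s4]; exact one_mem _
  have h4' : (s * s) ^ 2 ^ 1 ∈ Q U C p := by
    rw [← pow_two, ← pow_mul, show 2 * 2 ^ 1 = 4 from rfl, s4]; exact one_mem _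
  obtain ⟨a, rfl | rfl | rfl | rfl, ha⟩ := exists_Mul h hp hf hs
  · exfalso
    have h1 := mem_Q_of_Mul_one h hp hf ha h4
    exact hss (mul_mem h1 h1)
  · exact Or.inl ha
  · exact Or.inr ha
  · exfalso
    have h1 := (Mul.mul h hp hf ha ha).congr h hp hf (b := 1) (by norm_num)
    exact hss (mem_Q_of_Mul_one h hp hf h1 h4')

theorem cover (h : Tri V U C) (hp : Pt V p) {f s : G} (hf : IsF U C p f) (hs : s ∈ C p) (s4 : s ^ 4 = 1)
    (hss : s * s ∉ Q U C p) {c : G} (hc : c ∈ C p) : ∃ i j : ℕ, f ^ j * s ^ i * c ∈ Q U C p := by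
  have key : ∃ i, Mul U C p f (s ^ i * c) 1 := by
    obtain ⟨a, ha, hca⟩ := exists_Mul h hp hf hc
    rcases Mul_of_sq h hp hf hs s4 hss with hs2 | hs3
    · rcases ha with rfl | rfl | rfl | rfl
      · exact ⟨0, (Mul.mul h hp hf (Mul.pow h hp hf hs2 0) hca).congr h hp hf (by norm_num)⟩
      · exact ⟨3, (Mul.mul h hp hf (Mul.pow h hp hf hs2 3) hca).congr h hp hf (by norm_num)⟩
      · exact ⟨1, (Mul.mul h hp hf (Mul.pow h hp hf hs2 1) hca).congr h hp hf (by norm_num)⟩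
      · exact ⟨2, (Mul.mul h hp hf (Mul.pow h hp hf hs2 2) hca).congr h hp hf (by norm_num)⟩
    · rcases ha with rfl | rfl | rfl | rfl
      · exact ⟨0, (Mul.mul h hp hf (Mul.pow h hp hf hs3 0) hca).congr h hp hf (by norm_num)⟩
      · exact ⟨1, (Mul.mul h hp hf (Mul.pow h hp hf hs3 1) hca).congr h hp hf (by norm_num)⟩
      · exact ⟨3, (Mul.mul h hp hf (Mul.pow h hp hf hs3 3) hca).congr h hp hf (by norm_num)⟩
      · exact ⟨2, (Mul.mul h hp hf (Mul.pow h hp hf hs3 2) hca).congr h hp hf (by norm_num)⟩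
  obtain ⟨i, hi⟩ := key
  obtain ⟨j, hj⟩ := cent_f h hp hf hi
  exact ⟨i, j, by rwa [← mul_assoc] at hj⟩

/-- (B3') -/
theorem exists_N (h : Tri V U C) (hp : Pt V p) (hq : Pt V q) (hpq : p ≠ q) (hK : Nat.card ↥(K U p) = 64) :
    ∃ N : Subgroup G, N ≤ C p ∧ U p ≤ N ∧ U q ≤ N ∧ (∀ k ∈ K U p, k ∈ N → k ∈ U p) ∧
      (∃ k ∈ K U p, k ∉ N ∧ ∀ c ∈ C p, c ∈ N ∨ c * k ∈ N) := by
  have hKq := card_K_all h hp hq hK
  obtain ⟨f, hf⟩ := exists_isF h hp
  have f5 := pow_five h hp hf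
  obtain ⟨k, hk, hkU⟩ := exists_k h hp hK
  have hsqQ : ∀ x ∈ Q U C p, x * x ∈ U p := fun x hx => sq_mem_U h hp hq hpq hK hx
  have hkk : ∀ l ∈ K U p, l ∈ U p ∨ l * k ∈ U p := by
    intro l hl
    by_cases hlU : l ∈ U p
    · exact Or.inl hlU
    · exact Or.inr (mul_mem_U h hp hK hl hk hlU hkU)
  obtain ⟨O, hUO, hOQ, hOK, hOk, hOC⟩ := TriBO.exists_O (h.U_le_K hp) (h.K_le_Q hp) (kst_le _ _ _) hsqQ
    (fun c hc u hu => h.conj_memU hp hc hu) (fun c hc u hu => conj_mem_K h hp hc hu)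
    (fun c hc u hu => conj_mem_Q h hp hc hu) hf.mem f5 hk hkk
    (fun x hx hfx => fix_Q h hp hq hpq hf hx (h.U_le_K hp hfx))
    (fun c hc => by
      obtain ⟨m, -, hm⟩ := exists_Mul h hp hf (inv_mem hc)
      refine ⟨m, (f ^ m)⁻¹ * (c⁻¹ * f * c⁻¹⁻¹ * (f ^ m)⁻¹) * (f ^ m)⁻¹⁻¹,
        conj_mem_Q h hp (inv_mem (pow_mem hf.mem m)) hm.2, ?_⟩
      group)
  have hkO : k ∉ O := fun h1 => hkU (hOK k h1 hk)
  have hkQ : k ∈ Q U C p := h.K_le_Q hp hk
  -- `[C, Q] ≤ O`
  have hCQ : ∀ c ∈ C p, ∀ x ∈ Q U C p, c * x * c⁻¹ * x⁻¹ ∈ O := by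
    intro c hc x hx
    rcases hOk x hx with h1 | h1
    · exact mul_mem (hOC c hc x h1) (inv_mem h1)
    · rcases hOk _ (conj_mem_Q h hp hc hx) with h2 | h2
      · have h3 := hOC _ (inv_mem hc) _ h2
        have e : c⁻¹ * (c * x * c⁻¹) * c⁻¹⁻¹ = x := by group
        rw [e] at h3
        exact mul_mem h2 (inv_mem h3)
      · have h3 := mul_mem h2 (inv_mem h1)
        have e : c * x * c⁻¹ * k * (x * k)⁻¹ = c * x * c⁻¹ * x⁻¹ := by group
        rwa [e] at h3
  -- `F_q ≤ O`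
  have hFO : U q ⊓ Q U C p ≤ O := by
    obtain ⟨x, hx, hxV, hxx⟩ := exists_x h hp hq hpq
    have hxx' := hsqQ x hx
    have hxCq := h.centV_le hq hxV
    have hw : ∃ u ∈ U q, x * u * x⁻¹ * u⁻¹ ∉ U p := by
      by_contra hcon
      push Not at hcon
      have h1 : 8 ≤ Nat.card V := by
        refine eight_le h hq (c := x * x) (h.U_le_C hq hp hxx') (n := 1) ?_ hxx hq.1 ?_
        · have h2 := h.sqU p hp _ hxx'
          rw [pow_one, pow_two, h2]
          exact one_mem _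
        · intro u hu
          have h2 := hcon u hu
          set e := x * u * x⁻¹ * u⁻¹ with he
          have h3 : x * x * u * (x * x)⁻¹ * u⁻¹ = (x * e * x⁻¹) * e := by rw [he]; group
          rw [h3]
          have hee := h.sqU p hp e h2
          rcases ((h.mem_Q_iff hp).mp hx).2 e h2 with h4 | h4
          · rw [h4, hee]; exact one_mem _
          · rw [h4, mul_assoc, hee, mul_one]; exact hp.1
      rw [h.cardV] at h1
      omega
    obtain ⟨u, hu, hw⟩ := hw
    set w := x * u * x⁻¹ * u⁻¹ with hwdef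
    have huC := h.U_le_C hp hq hu
    have hwq : w ∈ U q := mul_mem (h.conj_memU hq hxCq hu) (inv_mem hu)
    have hwO : w ∈ O := by
      have h1 := inv_mem (hCQ u huC x hx)
      have e : (u * x * u⁻¹ * x⁻¹)⁻¹ = w := by rw [hwdef]; group
      rwa [e] at h1
    have hidx : (U q ⊓ U p).relIndex (U q ⊓ Q U C p) = 2 := by
      have hle : U q ⊓ U p ≤ U q ⊓ Q U C p := inf_le_inf_left _ (U_le_Q h hp)
      have h1 := card_mul_relIndex' hle
      rw [card_E h hq hp hpq.symm, card_F h hq hp hpq.symm] at h1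
      omega
    intro v hv
    by_cases hvU : v ∈ U p
    · exact hUO hvU
    · have h1 := mul_mem_of_relIndex_two hidx hv (⟨hwq, hOQ hwO⟩ : w ∈ U q ⊓ Q U C p)
        (fun h2 => hvU h2.2) (fun h2 => hw h2.2)
      have h2 := mul_mem (hUO h1.2) (inv_mem hwO)
      rwa [mul_inv_cancel_right] at h2
  -- `s`
  obtain ⟨s, hs, hsV, hss⟩ := exists_x h hq hp hpq.symm
  have hsC := h.centV_le hp hsV
  have hssU : s * s ∈ U q := sq_mem_U h hq hp hpq.symm hKq hs
  have s4 : s ^ 4 = 1 := by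
    have h1 := h.sqU q hq _ hssU
    rw [show (4 : ℕ) = 2 + 2 from rfl, pow_add, pow_two, h1]
  have s2 : ∀ j : ℕ, f ^ j * (s * s) ∉ Q U C p := by
    intro j hj
    -- `s * s` has multiplier 1
    have h1 : Mul U C p f (f ^ j * (s * s)) 1 := by
      refine ⟨hj.1, ?_⟩
      rw [pow_one]
      have h2 := mul_mem hj (conj_mem_Q h hp hf.mem (inv_mem hj))
      have e : f ^ j * (s * s) * (f * (f ^ j * (s * s))⁻¹ * f⁻¹) =
          f ^ j * (s * s) * f * (f ^ j * (s * s))⁻¹ * f⁻¹ := by group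
      rwa [e] at h2
    have h2 : Mul U C p f (f ^ (4 * j)) 1 := by
      refine ⟨pow_mem hf.mem _, ?_⟩
      have e : f ^ (4 * j) * f * (f ^ (4 * j))⁻¹ * (f ^ 1)⁻¹ = 1 := by
        rw [← pow_succ, pow_succ', pow_one]; group
      rw [e]; exact one_mem _
    have h3 := Mul.mul h hp hf h2 h1
    have e : f ^ (4 * j) * (f ^ j * (s * s)) = s * s := by
      rw [← mul_assoc, ← pow_add, show 4 * j + j = 5 * j by ring, pow_mul, f5, one_pow, one_mul]
    rw [e, mul_one] at h3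
    refine hss (mem_Q_of_Mul_one h hp hf h3 (n := 1) ?_)
    rw [pow_one, ← pow_two, ← pow_mul, show 2 * 2 = 4 from rfl, s4]
    exact one_mem _
  obtain ⟨N, hNC, hON, fN, sN, hkN, hNk⟩ := TriBO.exists_N hUO hOQ (kst_le _ _ _) hsqQ hOC
    (fun c hc u hu => conj_mem_Q h hp hc hu) hf.mem f5 hf.notMem
    (fun c hc => by
      obtain ⟨m, -, hm⟩ := exists_Mul h hp hf hc
      refine ⟨m, (f ^ m)⁻¹ * (c * f * c⁻¹ * (f ^ m)⁻¹) * (f ^ m)⁻¹⁻¹,
        conj_mem_Q h hp (inv_mem (pow_mem hf.mem m)) hm.2, ?_⟩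
      group)
    hsC s4 s2 (fun c hc => cover h hp hf hsC s4 hss hc) hkQ hkO hOk
  refine ⟨N, hNC, hUO.trans hON, ?_, ?_, k, hk, hkN, hNk⟩
  · intro v hv
    by_cases hvQ : v ∈ Q U C p
    · exact hON (hFO ⟨hv, hvQ⟩)
    · have h1 := mul_mem_Q_of_mem_U h hp hq hq hv hssU hvQ hss
      have h2 : v * (s * s) ∈ N := hON (hFO ⟨mul_mem hv hssU, h1⟩)
      have h3 := mul_mem h2 (inv_mem (mul_mem sN sN))
      rwa [mul_inv_cancel_right] at h3
  · intro l hl hlN
    by_contra hlU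
    have h1 := hON (hUO (mul_mem_U h hp hK hl hk hlU hkU))
    have h2 := mul_mem (inv_mem hlN) h1
    rw [inv_mul_cancel_left] at h2
    exact hkN h2

end Cfsg.Agent.Omega.TitsAmal.TriB

end

end

-- merged: Cfsg.Agent.Mrg.Omega.TitsAmal.TriFin
section

section


/-!
# The count of lines and case A

`Tri V U C` : the orbit of `q` under `C p` has length 10, i.e. there are five lines on `p`. If `|C_G(U_p)| = 32` then
`|C_p| = 10240`, `|Q_p| = 512`, `C_G(U_p) = U_p` and `(p, q)` satisfies `FinHyp`.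
-/

set_option autoImplicit false

namespace Cfsg.Agent.Omega.TitsAmal.TriFin

open Subgroup Cfsg Cfsg.Agent.ZN Cfsg.Agent.MinSimple.Geo
open Cfsg.Agent.Classification.TitsFin
open Cfsg.Agent.ZN.Block (conj_mem_of_normalizer conj_mem_of_normalizer' le_normalizer_of_forall
  mem_normalizer_of card_sup_mul_card_inf card_mul_relIndex' mul_mem_of_relIndex_two)
open Cfsg.Agent.Omega.TitsAmal.Tri (Pt kst K Q)
open Cfsg.Agent.Omega.TitsAmal.TriAct Cfsg.Agent.Omega.TitsAmal.TriQK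
open Cfsg.Agent.Omega.TitsAmal.TriTen
open Cfsg.Agent.MinSimple.VModule (oddGen)

universe u

variable {G : Type u} [Group G] [Finite G] {V : Subgroup G} {U C : G → Subgroup G} {p q : G}

/-- there is a second point -/
theorem exists_pt (h : Tri V U C) (_hp : Pt V p) : ∃ q, Pt V q ∧ p ≠ q := by
  classical
  by_contra hcon
  push Not at hcon
  have h1 : (V : Set G) ⊆ ({1, p} : Set G) := by
    intro v hv
    by_cases hv1 : v = 1
    · exact Or.inl hv1
    · exact Or.inr (hcon v ⟨hv, hv1⟩).symm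
  have h2 : (V : Set G).ncard ≤ ({1, p} : Set G).ncard := Set.ncard_le_ncard h1 (Set.toFinite _)
  have h3 : ({1, p} : Set G).ncard ≤ 2 := Set.ncard_insert_le _ _ |>.trans (by rw [Set.ncard_singleton])
  have h4 : (V : Set G).ncard = 4 := by
    rw [← h.cardV]; rfl
  omega

/-- `V = {1, p, q, pq}` -/
theorem mem_V_iff (h : Tri V U C) (hp : Pt V p) (hq : Pt V q) (hpq : p ≠ q) {v : G} :
    v ∈ V ↔ v = 1 ∨ v = p ∨ v = q ∨ v = p * q := by
  classical
  obtain ⟨h1, h2, h3⟩ := h.third hp hq hpq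
  constructor
  · intro hv
    have hsub : ({1, p, q, p * q} : Set G) ⊆ (V : Set G) := by
      rintro x (rfl | rfl | rfl | rfl)
      · exact one_mem _
      · exact hp.1
      · exact hq.1
      · exact h1.1
    have hc : ({1, p, q, p * q} : Set G).ncard = 4 := by
      have e1 : ({p * q} : Set G).ncard = 1 := Set.ncard_singleton _
      have e2 : ({q, p * q} : Set G).ncard = 2 := by
        rw [Set.ncard_insert_of_notMem (by simpa using h3.symm), e1]
      have e3 : ({p, q, p * q} : Set G).ncard = 3 := by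
        rw [Set.ncard_insert_of_notMem (by
          rintro (e | e)
          · exact hpq e
          · exact h2 e.symm), e2]
      rw [Set.ncard_insert_of_notMem (by
          rintro (e | e | e)
          · exact hp.2 e.symm
          · exact hq.2 e.symm
          · exact h1.2 e.symm), e3]
    have h4 : (V : Set G).ncard = 4 := by
      rw [← h.cardV]; rfl
    have heq : ({1, p, q, p * q} : Set G) = (V : Set G) :=
      Set.eq_of_subset_of_ncard_le hsub (by rw [hc, h4]) (Set.toFinite _)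
    have : v ∈ ({1, p, q, p * q} : Set G) := by rw [heq]; exact hv
    simpa using this
  · rintro (rfl | rfl | rfl | rfl)
    · exact one_mem _
    · exact hp.1
    · exact hq.1
    · exact h1.1

/-- `C_G(V)` is the stabiliser of `q` in `C_p` -/
theorem mem_centV_iff (h : Tri V U C) (hp : Pt V p) (hq : Pt V q) (hpq : p ≠ q) {g : G} :
    g ∈ centralizer (V : Set G) ↔ g ∈ C p ∧ g * q = q * g := by
  constructor
  · intro hg
    exact ⟨h.centV_le hp hg, (mem_centralizer_iff.mp hg q hq.1).symm⟩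
  · rintro ⟨h1, h2⟩
    have h3 := h.c_comm hp h1
    refine mem_centralizer_iff.mpr fun v hv => ?_
    rcases (mem_V_iff h hp hq hpq).mp hv with rfl | rfl | rfl | rfl
    · simp
    · exact h3.symm
    · exact h2.symm
    · calc p * q * g = p * (q * g) := by group
        _ = (p * g) * q := by rw [← h2]; group
        _ = g * (p * q) := by rw [← h3]; group

/-- `|Q_p : Q_p ⊓ C_G(V)| = 2` -/
theorem relIndex_centV_Q (h : Tri V U C) (hp : Pt V p) : (centralizer (V : Set G)).relIndex (Q U C p) = 2 := by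
  obtain ⟨q, hq, hpq⟩ := exists_pt h hp
  obtain ⟨c, hc, hcq⟩ := exists_move h hp (h.p_mem hq hp) hq.2 hpq.symm
  have hpp := h.pp hp
  rw [relIndex, index_eq_two_iff]
  refine ⟨⟨c, hc⟩, fun b => ?_⟩
  obtain ⟨b, hb⟩ := b
  have hcC : c ∈ C p := Tri.kst_le _ _ _ hc
  have hbC : b ∈ C p := Tri.kst_le _ _ _ hb
  rw [mem_subgroupOf, mem_subgroupOf]
  change Xor (b * c ∈ _) (b ∈ _)
  have hcp := h.c_comm hp hcC
  have hbp := h.c_comm hp hbC
  rcases ((h.mem_Q_iff hp).mp hb).2 q (h.p_mem hq hp) with e | e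
  · right
    refine ⟨(mem_centV_iff h hp hq hpq).mpr ⟨hbC, ?_⟩, fun hcon => ?_⟩
    · exact mul_inv_eq_iff_eq_mul.mp e
    · have h1 := ((mem_centV_iff h hp hq hpq).mp hcon).2
      have h2 : b * c * q = p * q * (b * c) := by
        calc b * c * q = b * (c * q * c⁻¹) * c := by group
          _ = (b * p) * q * c := by rw [hcq]; group
          _ = p * (b * q * b⁻¹) * (b * c) := by rw [hbp]; group
          _ = p * q * (b * c) := by rw [e]
      rw [h2] at h1
      have h3 : p * q = q := mul_right_cancel h1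
      exact hp.2 (mul_eq_right.mp h3)
  · left
    refine ⟨(mem_centV_iff h hp hq hpq).mpr ⟨mul_mem hbC hcC, ?_⟩, fun hcon => ?_⟩
    · calc b * c * q = b * (c * q * c⁻¹) * c := by group
        _ = (b * p) * q * c := by rw [hcq]; group
        _ = p * (b * q * b⁻¹) * (b * c) := by rw [hbp]; group
        _ = (p * p) * q * (b * c) := by rw [e]; group
        _ = q * (b * c) := by rw [hpp, one_mul]
    · have h1 := ((mem_centV_iff h hp hq hpq).mp hcon).2
      have h2 : b * q = p * q * b := mul_inv_eq_iff_eq_mul.mp e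
      rw [h2] at h1
      have h3 : p * q = q := mul_right_cancel h1
      exact hp.2 (mul_eq_right.mp h3)

/-- `|C_G(V) : Q_p ⊓ C_G(V)| = 4` -/
theorem relIndex_Q_centV (h : Tri V U C) (hp : Pt V p) : (Q U C p).relIndex (centralizer (V : Set G)) = 4 := by
  obtain ⟨q, hq, hpq⟩ := exists_pt h hp
  obtain ⟨c, hc, hcc⟩ := exists_four h hp hq hpq
  have hle := h.centV_le hp
  -- divides 20
  have h1 : (Q U C p).relIndex (centralizer (V : Set G)) ∣ 20 := by
    have hN : ((Q U C p).subgroupOf (C p)).Normal :=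
      (normal_subgroupOf_iff_le_normalizer (Tri.kst_le _ _ _)).mpr (h.C_le_normQ hp)
    have h2 := relIndex_dvd_index_of_normal ((Q U C p).subgroupOf (C p))
      ((centralizer (V : Set G)).subgroupOf (C p))
    rw [relIndex_subgroupOf hle] at h2
    have h3 : ((Q U C p).subgroupOf (C p)).index = 20 := relIndex_Q h hp
    rwa [h3] at h2
  -- a power of 2
  have : Fact (Nat.Prime 2) := ⟨Nat.prime_two⟩
  obtain ⟨n, hn⟩ := (isPGroup_centV h hp).index ((Q U C p).subgroupOf (centralizer (V : Set G)))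
  have hn' : (Q U C p).relIndex (centralizer (V : Set G)) = 2 ^ n := hn
  rw [hn'] at h1 ⊢
  have h3 : n ≠ 0 := by
    rintro rfl
    rw [pow_zero, relIndex_eq_one] at hn'
    exact hcc (mul_mem (hn' hc) (hn' hc))
  have h4 : n ≠ 1 := by
    rintro rfl
    rw [pow_one] at hn
    have := mul_self_mem_of_index_two hn ⟨c, hc⟩
    exact hcc (mem_subgroupOf.mp this)
  have h5 : n < 3 := by
    by_contra hcon
    push Not at hcon
    have h6 : 2 ^ 3 ∣ 20 := (Nat.pow_dvd_pow 2 hcon).trans h1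
    omega
  interval_cases n <;> omega

/-- five lines on `p`: the orbit of `q` under `C_p` has length 10 -/
theorem relIndex_centV (h : Tri V U C) (hp : Pt V p) : (centralizer (V : Set G)).relIndex (C p) = 10 := by
  have h1 := relIndex_centV_Q h hp
  have h2 := relIndex_Q_centV h hp
  have h3 := relIndex_Q h hp
  have e1 : Nat.card ↥(centralizer (V : Set G) ⊓ Q U C p) * 2 = Nat.card ↥(Q U C p) := by
    rw [← h1, ← inf_relIndex_right]
    exact card_mul_relIndex' inf_le_right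
  have e2 : Nat.card ↥(centralizer (V : Set G) ⊓ Q U C p) * 4 = Nat.card ↥(centralizer (V : Set G)) := by
    rw [← h2, inf_comm, ← inf_relIndex_right]
    exact card_mul_relIndex' inf_le_right
  have e3 : Nat.card ↥(Q U C p) * 20 = Nat.card ↥(C p) := by
    rw [← h3]
    exact card_mul_relIndex' (Tri.kst_le _ _ _)
  have e4 := card_mul_relIndex' (h.centV_le hp)
  have hpos : 0 < Nat.card ↥(centralizer (V : Set G) ⊓ Q U C p) := Nat.card_pos
  rw [← e2, ← e3, ← e1] at e4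
  have e5 : Nat.card ↥(centralizer (V : Set G) ⊓ Q U C p) * (4 * (centralizer (V : Set G)).relIndex (C p)) =
      Nat.card ↥(centralizer (V : Set G) ⊓ Q U C p) * 40 := by
    rw [← mul_assoc, e4]; ring
  have e6 := Nat.eq_of_mul_eq_mul_left hpos e5
  omega

/-- case A -/
theorem card_C (h : Tri V U C) (hp : Pt V p) (hK : Nat.card ↥(K U p) = 32) :
    Nat.card ↥(C p) = 10240 ∧ Nat.card ↥(Q U C p) = 512 ∧ K U p = U p := by
  have e1 : Nat.card ↥(Q U C p) = 512 := by
    rw [← card_mul_relIndex' (h.K_le_Q hp), relIndex_K h hp, hK]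
  have e2 : Nat.card ↥(C p) = 10240 := by
    rw [← card_mul_relIndex' (Tri.kst_le (C p) (U p) p), e1, show (kst (C p) (U p) p).relIndex (C p) = 20 from relIndex_Q h hp]
  refine ⟨e2, e1, ?_⟩
  exact (eq_of_le_of_card_ge (h.U_le_K hp) (by rw [hK, h.cardU p hp])).symm

/-- `U_p` is generated by `p` and the conjugates of `q` under `C_p` -/
theorem closure_eq (h : Tri V U C) (hp : Pt V p) (hq : Pt V q) (hpq : p ≠ q) :
    closure (insert p {y | ∃ g ∈ C p, g * q * g⁻¹ = y}) = U p := by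
  obtain ⟨f, hf⟩ := exists_isF h hp
  have hle : closure (insert p {y | ∃ g ∈ C p, g * q * g⁻¹ = y}) ≤ U p := by
    rw [closure_le]
    rintro y (rfl | ⟨g, hg, rfl⟩)
    · exact h.p_mem hp hp
    · exact h.conj_memU hp hg (h.p_mem hq hp)
  have hqm : q ∈ closure (insert p {y | ∃ g ∈ C p, g * q * g⁻¹ = y}) :=
    subset_closure (Or.inr ⟨1, one_mem _, by simp⟩)
  have hinv : closure (insert p {y | ∃ g ∈ C p, g * q * g⁻¹ = y}) ≤
      (closure (insert p {y | ∃ g ∈ C p, g * q * g⁻¹ = y})).comap (MulAut.conj f).toMonoidHom := by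
    rw [closure_le]
    rintro y (rfl | ⟨g, hg, rfl⟩)
    · rw [SetLike.mem_coe, mem_comap]
      change f * y * f⁻¹ ∈ (_ : Subgroup G)
      rw [h.c_comm hp hf.mem, mul_inv_cancel_right]
      exact subset_closure (Or.inl rfl)
    · rw [SetLike.mem_coe, mem_comap]
      change f * (g * q * g⁻¹) * f⁻¹ ∈ (_ : Subgroup G)
      exact subset_closure (Or.inr ⟨f * g, mul_mem hf.mem hg, by group⟩)
  rcases hf.irred h hp hle (subset_closure (Or.inl rfl)) (fun b hb => hinv hb) with h1 | h1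
  · rcases h1 q hqm with e | e
    · exact absurd e hq.2
    · exact absurd e.symm hpq
  · exact h1

omit [Finite G] in
/-- the lines on `p` -/
theorem adj_iff (hC : C p = centralizer ({p} : Set G)) {y : G} :
    Adj p q p y ↔ ∃ g ∈ C p, g * q * g⁻¹ = y := by
  rw [hC]
  constructor
  · rintro ⟨g, h1, h2⟩
    exact ⟨g, mem_centralizer_singleton_iff.mpr (mul_inv_eq_iff_eq_mul.mp h1), h2⟩
  · rintro ⟨g, h1, h2⟩
    exact ⟨g, mul_inv_eq_iff_eq_mul.mpr (mem_centralizer_singleton_iff.mp h1), h2⟩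

theorem U_eq (h : Tri V U C) (hp : Pt V p) (hq : Pt V q) (hpq : p ≠ q) (hC : C p = centralizer ({p} : Set G)) :
    Cfsg.Agent.Classification.TitsFin.U p q p = U p := by
  rw [← closure_eq h hp hq hpq, Cfsg.Agent.Classification.TitsFin.U]
  congr 2
  ext y
  exact adj_iff hC

/-- `InQ` is membership in `Q_p` -/
theorem inQ_iff (h : Tri V U C) (hp : Pt V p) (hq : Pt V q) (hpq : p ≠ q) (hC : C p = centralizer ({p} : Set G))
    {g : G} : InQ p q p g ↔ g ∈ Q U C p := by
  have hpp := h.pp hp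
  constructor
  · rintro ⟨h1, h2⟩
    have hgC : g ∈ C p := by rw [hC]; exact mem_centralizer_singleton_iff.mpr h1
    refine (h.mem_Q_iff hp).mpr ⟨hgC, fun u hu => ?_⟩
    rw [← U_eq h hp hq hpq hC] at hu
    have key : u ∈ U p ∧ (g * u * g⁻¹ = u ∨ g * u * g⁻¹ = p * u) := by
      refine closure_induction (p := fun u _ => u ∈ U p ∧ (g * u * g⁻¹ = u ∨ g * u * g⁻¹ = p * u))
        ?_ ?_ ?_ ?_ hu
      · rintro y (rfl | hy)
        · exact ⟨h.p_mem hp hp, Or.inl (mul_inv_eq_iff_eq_mul.mpr h1)⟩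
        · refine ⟨?_, h2 y hy⟩
          rw [← U_eq h hp hq hpq hC]
          exact mem_U_of_adj hy
      · exact ⟨one_mem _, Or.inl (by simp)⟩
      · rintro x y - - ⟨hx, hx'⟩ ⟨hy, hy'⟩
        refine ⟨mul_mem hx hy, ?_⟩
        have e : g * (x * y) * g⁻¹ = (g * x * g⁻¹) * (g * y * g⁻¹) := by group
        have hxp : x * p = p * x := h.commU hp hx (h.p_mem hp hp)
        rw [e]
        rcases hx' with e1 | e1 <;> rcases hy' with e2 | e2 <;> rw [e1, e2]
        · exact Or.inl rfl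
        · right; rw [← mul_assoc, hxp, mul_assoc]
        · right; rw [mul_assoc]
        · left
          calc p * x * (p * y) = p * (x * p) * y := by group
            _ = (p * p) * x * y := by rw [hxp]; group
            _ = x * y := by rw [hpp, one_mul]
      · rintro x - ⟨hx, hx'⟩
        refine ⟨inv_mem hx, ?_⟩
        rw [inv_eq_self (h.sqU p hp x hx)]
        exact hx'
    exact key.2
  · intro hg
    obtain ⟨h1, h2⟩ := (h.mem_Q_iff hp).mp hg
    refine ⟨h.c_comm hp h1, fun y hy => h2 y ?_⟩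
    rw [← U_eq h hp hq hpq hC]
    exact mem_U_of_adj hy

/-- the number of points collinear to `p` -/
theorem card_adj (h : Tri V U C) (hp : Pt V p) (hq : Pt V q) (hpq : p ≠ q) (hC : C p = centralizer ({p} : Set G)) :
    Nat.card {x // Adj p q p x} = 10 := by
  have h1 := relIndex_centV h hp
  rw [relIndex, index] at h1
  rw [← h1]
  symm
  have hmem : ∀ g : C p, Adj p q p ((g : G) * q * (g : G)⁻¹) := fun g => (adj_iff hC).mpr ⟨g, g.2, rfl⟩
  have hrel : ∀ a b : C p, (QuotientGroup.leftRel ((centralizer (V : Set G)).subgroupOf (C p))) a b ↔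
      (a : G) * q * (a : G)⁻¹ = (b : G) * q * (b : G)⁻¹ := by
    intro a b
    rw [QuotientGroup.leftRel_apply, mem_subgroupOf, mem_centV_iff h hp hq hpq]
    constructor
    · rintro ⟨-, h3⟩
      have h4 : (a : G)⁻¹ * b * q = q * ((a : G)⁻¹ * b) := h3
      calc (a : G) * q * (a : G)⁻¹ = a * (q * ((a : G)⁻¹ * b)) * (b : G)⁻¹ := by group
        _ = a * ((a : G)⁻¹ * b * q) * (b : G)⁻¹ := by rw [h4]
        _ = (b : G) * q * (b : G)⁻¹ := by group
    · intro h3
      refine ⟨(a⁻¹ * b).2, ?_⟩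
      change (a : G)⁻¹ * b * q = q * ((a : G)⁻¹ * b)
      calc (a : G)⁻¹ * b * q = (a : G)⁻¹ * (b * q * (b : G)⁻¹) * b := by group
        _ = (a : G)⁻¹ * (a * q * (a : G)⁻¹) * b := by rw [h3]
        _ = q * ((a : G)⁻¹ * b) := by group
  refine Nat.card_congr (Equiv.ofBijective
    (Quotient.lift (fun g : C p => (⟨(g : G) * q * (g : G)⁻¹, hmem g⟩ : {x // Adj p q p x}))
      (fun a b hab => Subtype.ext ((hrel a b).mp hab))) ⟨?_, ?_⟩)
  · intro a b hab
    induction a using Quotient.inductionOn with | _ a => ?_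
    induction b using Quotient.inductionOn with | _ b => ?_
    exact Quotient.sound ((hrel a b).mpr (congrArg Subtype.val hab))
  · rintro ⟨x, hx⟩
    obtain ⟨g, hg, rfl⟩ := (adj_iff hC).mp hx
    exact ⟨Quotient.mk _ ⟨g, hg⟩, rfl⟩

/-- case A : the final configuration -/
theorem finHyp (h : Tri V U C) (hp : Pt V p) (hq : Pt V q) (hpq : p ≠ q) (hC : C p = centralizer ({p} : Set G))
    (hK : Nat.card ↥(K U p) = 32) : FinHyp p q := by
  obtain ⟨c1, c2, c3⟩ := card_C h hp hK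
  obtain ⟨t1, t2, t3⟩ := h.third hp hq hpq
  have hU := U_eq h hp hq hpq hC
  refine
    { z_sq := h.pp hp
      z_ne := hp.2
      p_ne := hpq.symm
      zp := h.commV hp hq
      swap := ?_
      rot := ?_
      comm := fun x y hx hy => ?_
      cardU := by rw [hU, h.cardU p hp]
      cent := fun g hg => ?_
      cardA := card_adj h hp hq hpq hC
      cardC := by rw [← hC]; exact c1
      cardQ := ?_
      ncomm := ?_ }
  · obtain ⟨n, -, h1, h2⟩ := h.sym p q q p hp hq hpq hq hp hpq.symm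
    exact ⟨n, h1, h2⟩
  · obtain ⟨n, -, h1, h2⟩ := h.sym p q p (p * q) hp hq hpq hp t1 t2.symm
    exact ⟨n, h1, h2⟩
  · refine h.commU hp ?_ ?_
    · rw [← hU]; exact mem_U_of_adj hx
    · rw [← hU]; exact mem_U_of_adj hy
  · rw [hU] at hg ⊢
    rw [← c3]
    exact mem_centralizer_iff.mpr fun u hu => (hg u hu).symm
  · rw [← c2]
    exact Nat.card_congr (Equiv.subtypeEquivRight fun g => inQ_iff h hp hq hpq hC)
  · -- the groups do not commute
    by_contra hcon
    push Not at hcon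
    obtain ⟨n, hn, h1, h2⟩ := h.sym p q q p hp hq hpq hq hp hpq.symm
    have hUq : Cfsg.Agent.Classification.TitsFin.U p q q = U q := by
      have e1 : Cfsg.Agent.Classification.TitsFin.U p q (n * p * n⁻¹) = cj n (Cfsg.Agent.Classification.TitsFin.U p q p) := (map_U n).symm
      rw [h1, hU, h.conjU n hn p hp, h1] at e1
      exact e1
    obtain ⟨a, ha, b, hb, hab⟩ := h.nc p q hp hq hpq
    apply hab
    rw [← hU] at ha
    rw [← hUq] at hb
    refine closure_induction (p := fun a _ => a * b = b * a) ?_ ?_ ?_ ?_ ha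
    · rintro x (rfl | hx)
      · exact h.commU hq (h.p_mem hp hq) (by rw [← hUq]; exact hb)
      · refine closure_induction (p := fun b _ => x * b = b * x) ?_ ?_ ?_ ?_ hb
        · rintro y (rfl | hy)
          · exact h.commU hp (by rw [← hU]; exact mem_U_of_adj hx) (h.p_mem hq hp)
          · exact hcon x y hx hy
        · simp
        · rintro y z - - hy hz
          rw [← mul_assoc, hy, mul_assoc, hz, mul_assoc]
        · rintro y - hy
          exact (show Commute x y from hy).inv_right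
    · simp
    · rintro y z - - hy hz
      rw [mul_assoc, hz, ← mul_assoc, hy, mul_assoc]
    · rintro y - hy
      exact (show Commute y b from hy).inv_left

end Cfsg.Agent.Omega.TitsAmal.TriFin

end

section


/-!
# Section A, supplements: the elements of `E - V` are not conjugate to `p`
-/

set_option autoImplicit false

namespace Cfsg.Agent.Omega.TitsAmal.TriTypeB

open Subgroup Cfsg Cfsg.Agent.ZN Cfsg.Agent.MinSimple.Geo
open Cfsg.Agent.Classification.TitsFin
open Cfsg.Agent.Omega.TitsAmal.Tri (Pt kst K Q)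
open Cfsg.Agent.Classification.TitsFin.Mod16 Cfsg.Agent.Omega.TitsAmal.TriAct
open Cfsg.Agent.Omega.TitsAmal.TriMore Cfsg.Agent.Omega.TitsAmal.TriQK
open Cfsg.Agent.Omega.TitsAmal.TriFin
open Cfsg.Agent.ZN.Block (conj_mem_of_normalizer conj_mem_of_normalizer' le_normalizer_of_forall
  mem_normalizer_of card_sup_mul_card_inf card_mul_relIndex' mul_mem_of_relIndex_two)

universe u

variable {G : Type u} [Group G] [Finite G] {V : Subgroup G} {U C : G → Subgroup G} {p q : G}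

theorem relIndex_V_E (h : Tri V U C) (hp : Pt V p) (hq : Pt V q) (hpq : p ≠ q) :
    V.relIndex (U p ⊓ U q) = 2 := by
  have h1 := card_mul_relIndex' (le_inf (h.V_le p hp) (h.V_le q hq))
  rw [h.cardV, card_E h hp hq hpq] at h1
  omega

/-- `3 ∤ |C_p|` -/
theorem not_three_dvd (h : Tri V U C) (hp : Pt V p) : ¬ 3 ∣ Nat.card (C p) := by
  have h1 := card_mul_relIndex' (Tri.kst_le (C p) (U p) p)
  rw [show (kst (C p) (U p) p).relIndex (C p) = 20 from relIndex_Q h hp] at h1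
  obtain ⟨n, hn⟩ := (IsPGroup.iff_card).mp (isPGroup_Q h hp)
  rw [show Nat.card (kst (C p) (U p) p) = 2 ^ n from hn] at h1
  rw [← h1]
  intro h2
  rcases (Nat.Prime.dvd_mul (by norm_num)).mp h2 with h3 | h3
  · exact absurd (Nat.Prime.dvd_of_dvd_pow (by norm_num) h3) (by norm_num)
  · exact absurd h3 (by norm_num)

/-- an element of `N_G(V)` of order divisible by 3 centralises an element of `E - V` -/
theorem exists_three (h : Tri V U C) (hp : Pt V p) (hq : Pt V q) (hpq : p ≠ q) :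
    ∃ e ∈ U p ⊓ U q, e ∉ V ∧ ∃ n, n * e = e * n ∧ 3 ∣ orderOf n := by
  obtain ⟨hr, hr1, hr2⟩ := h.third hp hq hpq
  obtain ⟨n, hn, h1, h2⟩ := h.sym p q q (p * q) hp hq hpq hq hr hr2.symm
  have hpp := h.pp hp
  have hqq := h.pp hq
  have hcomm := h.commV hp hq
  obtain ⟨e, he, heV⟩ := exists_E h hp hq hpq
  -- `n` normalises `E`
  have hnE : n * e * n⁻¹ ∈ U p ⊓ U q := by
    have h3 : n * e * n⁻¹ ∈ cj n (U p) ⊓ cj n (U q) := mem_inf.mpr ⟨conj_mem_cj he.1, conj_mem_cj he.2⟩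
    rw [h.conjU n hn p hp, h.conjU n hn q hq, h1, h2] at h3
    rwa [inf_eq h hp hq hpq hq hr hr2.symm]
  have hnV : n * e * n⁻¹ ∉ V := by
    intro h3
    have := conj_mem_of_normalizer' (le_refl (normalizer (V : Set G))) hn h3
    have e1 : n⁻¹ * (n * e * n⁻¹) * n = e := by group
    rw [e1] at this
    exact heV this
  have hee : e⁻¹ = e := inv_eq_self (h.sqU p hp e he.1)
  have hv : e * (n * e * n⁻¹) ∈ V := mul_mem_of_relIndex_two (relIndex_V_E h hp hq hpq) he hnE heV hnV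
  -- find `w ∈ V` with `n (e w) n⁻¹ = e w`
  have hnpq : n * (p * q) * n⁻¹ = p := by
    have : n * (p * q) * n⁻¹ = (n * p * n⁻¹) * (n * q * n⁻¹) := by group
    rw [this, h1, h2, hcomm, ← mul_assoc, hqq, one_mul]
  have key : ∃ w ∈ V, n * w * n⁻¹ = e * (n * e * n⁻¹) * w := by
    rcases (mem_V_iff h hp hq hpq).mp hv with h3 | h3 | h3 | h3
    · exact ⟨1, one_mem _, by rw [h3]; group⟩
    · refine ⟨q, hq.1, ?_⟩
      rw [h3, h2]
    · refine ⟨p * q, hr.1, ?_⟩
      rw [h3, hnpq, hcomm, ← mul_assoc, hqq, one_mul]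
    · refine ⟨p, hp.1, ?_⟩
      rw [h3, h1, hcomm, mul_assoc, hpp, mul_one]
  obtain ⟨w, hw, hw'⟩ := key
  have hew : e * w = w * e := h.commU hp he.1 (h.V_le p hp hw)
  have hwE : w ∈ U p ⊓ U q := mem_inf.mpr ⟨h.V_le p hp hw, h.V_le q hq hw⟩
  refine ⟨e * w, mul_mem he hwE, fun h3 => heV ((mul_mem_cancel_right hw).mp h3), n, ?_, ?_⟩
  · have h4 : n * (e * w) * n⁻¹ = e * w := by
      have e1 : n * (e * w) * n⁻¹ = (n * e * n⁻¹) * (n * w * n⁻¹) := by group
      rw [e1, hw']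
      have hx := h.commU hp he.1 hnE.1
      have hxx := h.sqU p hp _ hnE.1
      calc n * e * n⁻¹ * (e * (n * e * n⁻¹) * w) = (n * e * n⁻¹) * ((n * e * n⁻¹) * e) * w := by
            rw [hx]; group
        _ = ((n * e * n⁻¹) * (n * e * n⁻¹)) * (e * w) := by group
        _ = e * w := by rw [hxx, one_mul]
    exact mul_inv_eq_iff_eq_mul.mp h4
  · by_contra h3
    have h4 : Nat.Coprime 3 (orderOf n) := (Nat.Prime.coprime_iff_not_dvd (by norm_num)).mpr h3
    obtain ⟨m, hm⟩ := exists_pow_eq_self_of_coprime h4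
    have h5 : Commute (n ^ 3) p := by
      change n ^ 3 * p = p * n ^ 3
      have e1 : n ^ 3 * p * (n ^ 3)⁻¹ = n * (n * (n * p * n⁻¹) * n⁻¹) * n⁻¹ := by
        rw [pow_succ, pow_two]; group
      have e2 : n ^ 3 * p * (n ^ 3)⁻¹ = p := by rw [e1, h1, h2, hnpq]
      exact mul_inv_eq_iff_eq_mul.mp e2
    have h6 := h5.pow_left m
    rw [hm] at h6
    rw [h6.eq, mul_inv_cancel_right] at h1
    exact hpq h1

/-- `C_G(V)` is transitive on `E - V` -/
theorem exists_conj_E (h : Tri V U C) (hp : Pt V p) (hq : Pt V q) (hpq : p ≠ q) {e e' : G}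
    (he : e ∈ U p ⊓ U q) (he' : e' ∈ U p ⊓ U q) (heV : e ∉ V) (heV' : e' ∉ V) :
    ∃ c ∈ centralizer (V : Set G), c * e * c⁻¹ = e' := by
  have hpp := h.pp hp
  have hqq := h.pp hq
  have hcomm := h.commV hp hq
  obtain ⟨c, hc, hcV, hce⟩ := exists_move_V h hp he.1 heV
  obtain ⟨d, hd, hdV, hde⟩ := exists_move_V h hq he.2 heV
  have hee : e * e = 1 := h.sqU p hp e he.1
  have hv : e' * e ∈ V := mul_mem_of_relIndex_two (relIndex_V_E h hp hq hpq) he' he heV' heV
  have e1 : e' = (e' * e) * e := by rw [mul_assoc, hee, mul_one]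
  rcases (mem_V_iff h hp hq hpq).mp hv with h3 | h3 | h3 | h3
  · exact ⟨1, one_mem _, by rw [e1, h3]; group⟩
  · exact ⟨c, hcV, by rw [hce, e1, h3]⟩
  · exact ⟨d, hdV, by rw [hde, e1, h3]⟩
  · refine ⟨c * d, mul_mem hcV hdV, ?_⟩
    have hcq : c * q * c⁻¹ = q := by
      rw [← mem_centralizer_iff.mp hcV q hq.1, mul_inv_cancel_right]
    calc c * d * e * (c * d)⁻¹ = c * (d * e * d⁻¹) * c⁻¹ := by group
      _ = (c * q * c⁻¹) * (c * e * c⁻¹) := by rw [hde]; group
      _ = q * (p * e) := by rw [hcq, hce]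
      _ = e' := by rw [e1, h3, ← mul_assoc, hcomm]

/-- elements of `E - V` are not conjugate to `p` -/
theorem not_conj (h : Tri V U C) (hp : Pt V p) (hq : Pt V q) (hpq : p ≠ q) (hC : C p = centralizer ({p} : Set G))
    {e g : G} (he : e ∈ U p ⊓ U q) (heV : e ∉ V) : g * e * g⁻¹ ≠ p := by
  intro hg
  obtain ⟨e₀, he₀, heV₀, n, hn, h3⟩ := exists_three h hp hq hpq
  obtain ⟨c, -, hc⟩ := exists_conj_E h hp hq hpq he₀ he heV₀ heV
  -- `g c n c⁻¹ g⁻¹ ∈ C_G(p)`
  have h1 : (g * c) * n * (g * c)⁻¹ ∈ C p := by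
    rw [hC, mem_centralizer_singleton_iff, ← hg, ← hc]
    calc g * c * n * (g * c)⁻¹ * (g * (c * e₀ * c⁻¹) * g⁻¹) = g * c * (n * e₀) * c⁻¹ * g⁻¹ := by group
      _ = g * c * (e₀ * n) * c⁻¹ * g⁻¹ := by rw [hn]
      _ = g * (c * e₀ * c⁻¹) * g⁻¹ * (g * c * n * (g * c)⁻¹) := by group
  have h4 : orderOf ((g * c) * n * (g * c)⁻¹) = orderOf n := by
    rw [← MulAut.conj_apply]; exact (MulAut.conj (g * c)).orderOf_eq n
  have h5 : orderOf (⟨_, h1⟩ : C p) ∣ Nat.card (C p) := orderOf_dvd_natCard _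
  rw [← orderOf_coe, show orderOf ((⟨g * c * n * (g * c)⁻¹, h1⟩ : C p) : G) = orderOf n from h4] at h5
  exact not_three_dvd h hp (h3.trans h5)

/-- the conjugates of `p` in `U_p` : `p` and the other points of the lines `V ^ c`, `c ∈ C_p` -/
theorem eq_or_exists (h : Tri V U C) (hp : Pt V p) (hq : Pt V q) (hpq : p ≠ q)
    (hC : C p = centralizer ({p} : Set G)) {u g : G} (hu : u ∈ U p) (hg : g * u * g⁻¹ = p) :
    u = p ∨ ∃ c ∈ C p, u = c * q * c⁻¹ := by
  obtain ⟨f, hf⟩ := exists_isF h hp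
  obtain ⟨k, -, e, he, rfl⟩ := spread_U h hp hq hpq hf hu
  have hfk : f ^ k ∈ C p := pow_mem hf.mem k
  have heV : e ∈ V := by
    by_contra heV
    refine not_conj h hp hq hpq hC (g := g * f ^ k) he heV ?_
    rw [← hg]; group
  rcases (mem_V_iff h hp hq hpq).mp heV with h1 | h1 | h1 | h1
  · exfalso
    rw [h1] at hg
    apply hp.2
    rw [← hg]; group
  · left
    rw [h1, h.c_comm hp hfk, mul_inv_cancel_right]
  · right
    exact ⟨f ^ k, hfk, by rw [h1]⟩
  · right
    obtain ⟨c, hc, hcq⟩ := exists_move h hp (h.p_mem hq hp) hq.2 hpq.symm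
    refine ⟨f ^ k * c, mul_mem hfk hc.1, ?_⟩
    rw [h1, ← hcq]; group

end Cfsg.Agent.Omega.TitsAmal.TriTypeB

end

section


/-!
# Case B of the Tits end: conclusion

`caseB_false`: a finite group without subgroups of index 2 has no configuration `Tri` with `|C_G(U_p)| = 64` and
`C_p = C_G(p)`.
-/

set_option autoImplicit false
set_option linter.style.haveILetI false

namespace Cfsg.Agent.Omega.TitsAmal.TriB

open Subgroup Cfsg Cfsg.Agent.ZN Cfsg.Agent.MinSimple.Geo
open Cfsg.Agent.Classification.TitsFin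
open Cfsg.Agent.Omega.TitsAmal.Tri (Pt kst K Q cj_kst kst_le)
open Cfsg.Agent.Omega.TitsAmal.TriAct Cfsg.Agent.Omega.TitsAmal.TriQK
open Cfsg.Agent.Classification.TitsFin.TransferCount (Bad IsHalf)
open Cfsg.Agent.ZN.Block (card_mul_relIndex' mul_mem_of_relIndex_two)

universe u

variable {G : Type u} [Group G] [Finite G] {V : Subgroup G} {U C : G → Subgroup G} {p q : G}

/-- a conjugate of `p` in `U p` other than `p` comes with a conjugating element that takes `U q` to `U p` -/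
theorem good_conj (h : Tri V U C) (hp : Pt V p) (hq : Pt V q) (hpq : p ≠ q)
    (hC : C p = centralizer ({p} : Set G)) {x g : G} (hg : g * p * g⁻¹ = x) (hx : x ∈ U p) (hxp : x ≠ p) :
    ∃ t, t * p * t⁻¹ = x ∧ ∀ u ∈ U p, t⁻¹ * u * t ∈ U q := by
  have h1 : g⁻¹ * x * g⁻¹⁻¹ = p := by rw [← hg]; group
  rcases TriTypeB.eq_or_exists h hp hq hpq hC hx h1 with h2 | ⟨c, hc, hcx⟩
  · exact absurd h2 hxp
  · obtain ⟨n, -, h3, -, -, h4, -, -⟩ := h.exists_swap hp hq hpq
    refine ⟨c * n, ?_, fun u hu => ?_⟩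
    · rw [hcx, ← h3]; group
    · have h5 := h.conj_memU' hp hc hu
      rw [← h4] at h5
      obtain ⟨v, hv, hv'⟩ := h5
      have e : (c * n)⁻¹ * u * (c * n) = v := by
        have hv'' : n * v * n⁻¹ = c⁻¹ * u * c := hv'
        calc (c * n)⁻¹ * u * (c * n) = n⁻¹ * (c⁻¹ * u * c) * n := by group
          _ = v := by rw [← hv'']; group
      rw [e]
      exact hv

omit [Finite G] in
theorem relIndex_eq_two {N D : Subgroup G} {k : G} (hk : k ∈ D) (hkN : k ∉ N)
    (hc : ∀ c ∈ D, c ∈ N ∨ c * k ∈ N) : N.relIndex D = 2 := by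
  rw [relIndex, index_eq_two_iff]
  refine ⟨⟨k, hk⟩, fun b => ?_⟩
  have hb := hc b b.2
  have h1 : ¬ ((b : G) ∈ N ∧ (b : G) * k ∈ N) := fun ⟨h2, h3⟩ => hkN (by
    have h4 := mul_mem (inv_mem h2) h3
    rwa [inv_mul_cancel_left] at h4)
  change Xor ((b : G) * k ∈ N) ((b : G) ∈ N)
  unfold Xor
  tauto

/-- the centralizer in `K_p` of an involution of `C_p` outside `K_p` is small -/
theorem pt_orb (h : Tri V U C) (hp : Pt V p) (hK : Nat.card ↥(K U p) = 64) {x : G} (hx : x ∈ C p)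
    (hx1 : x * x = 1) (hxK : x ∉ K U p) : 2 < (centralizer ({x} : Set G)).relIndex (K U p) := by
  by_contra hcon
  push Not at hcon
  have hpp := h.pp hp
  set D : Subgroup G := centralizer ({x} : Set G) with hD
  -- two elements of `K` outside `D` differ by an element of `D`
  have hpos : D.relIndex (K U p) ≠ 0 := index_ne_zero_of_finite
  have key : ∀ a ∈ K U p, ∀ b ∈ K U p, a ∉ D → b ∉ D → a⁻¹ * b ∈ D := by
    intro a ha b hb haD hbD
    have h2 : D.relIndex (K U p) = 2 := by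
      have h3 : D.relIndex (K U p) ≠ 1 := fun h3 => haD (relIndex_eq_one.mp h3 ha)
      omega
    have h4 : (a⁻¹ * b : G) ∈ D ↔ (a⁻¹ ∈ D ↔ b ∈ D) := by
      have h5 := mul_mem_iff_of_index_two (H := D.subgroupOf (K U p)) h2 (a := ⟨a⁻¹, inv_mem ha⟩) (b := ⟨b, hb⟩)
      simpa [mem_subgroupOf] using h5
    rw [h4, inv_mem_iff]
    tauto
  have hmem : ∀ a, a ∈ D ↔ a * x = x * a := fun a => mem_centralizer_singleton_iff
  by_cases hxQ : x ∈ Q U C p
  · -- `x ∈ Q p`
    obtain ⟨k, hk, hkU⟩ := exists_k h hp hK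
    -- some `u ∈ U p` does not commute with `x`
    have hu : ∃ u ∈ U p, u ∉ D := by
      by_contra hc
      push Not at hc
      exact hxK (mem_centralizer_iff.mpr fun u hu => (hmem u).mp (hc u hu))
    obtain ⟨u, hu, huD⟩ := hu
    have hkD : ∀ k ∈ K U p, k ∉ U p → k ∉ D := by
      intro k hk hkU hkD
      refine hxK (rho h hp hK hk hkU hxQ (Or.inl ?_))
      rw [← (hmem k).mp hkD, mul_inv_cancel_right]
    have h1 := key u (h.U_le_K hp hu) k hk huD (hkD k hk hkU)
    exact hkD _ (mul_mem (inv_mem (h.U_le_K hp hu)) hk)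
      (fun h2 => hkU (by have := mul_mem hu h2; rwa [mul_inv_cancel_left] at this)) h1
  · -- `x ∉ Q p`
    have hu : ∃ u ∈ U p, u ∉ D := by
      by_contra hc
      push Not at hc
      exact hxK (mem_centralizer_iff.mpr fun u hu => (hmem u).mp (hc u hu))
    obtain ⟨u, hu, huD⟩ := hu
    set w := x * u * x⁻¹ * u⁻¹ with hw
    have hwU : w ∈ U p := mul_mem (h.conj_memU hp hx hu) (inv_mem hu)
    have hww : w * w = 1 := h.sqU p hp w hwU
    set W : Subgroup G := zpowers p ⊔ zpowers w with hWdef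
    have hW4 : Nat.card W ≤ 4 := by
      have h1 : zpowers p ≤ normalizer (zpowers w : Set G) := by
        refine Block.le_normalizer_of_forall fun a ha b hb => ?_
        have haU : a ∈ U p := (zpowers_le.mpr (h.p_mem hp hp)) ha
        have hbU : b ∈ U p := (zpowers_le.mpr hwU) hb
        rw [h.commU hp haU hbU, mul_inv_cancel_right]
        exact hb
      have h2 := Block.card_sup_mul_card_inf h1
      have h3 : Nat.card (zpowers p) ≤ 2 := by
        rw [Nat.card_zpowers]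
        exact orderOf_le_of_pow_eq_one (by norm_num) (by rw [pow_two, hpp])
      have h4 : Nat.card (zpowers w) ≤ 2 := by
        rw [Nat.card_zpowers]
        exact orderOf_le_of_pow_eq_one (by norm_num) (by rw [pow_two, hww])
      have h5 : 0 < Nat.card ↥(zpowers p ⊓ zpowers w) := Nat.card_pos
      have h6 : Nat.card (zpowers p) * Nat.card (zpowers w) ≤ 2 * 2 := Nat.mul_le_mul h3 h4
      calc Nat.card W ≤ Nat.card W * Nat.card ↥(zpowers p ⊓ zpowers w) := Nat.le_mul_of_pos_right _ h5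
        _ ≤ 4 := by rw [hWdef, h2]; exact h6
    have h8 := eight_le h hp hx (n := 1) (by rw [pow_one, pow_two, hx1]; exact one_mem _) hxQ (W := W)
      (mem_sup_left (mem_zpowers p)) (by
        intro v hv
        by_cases hvD : v ∈ D
        · rw [← (hmem v).mp hvD, mul_inv_cancel_right, mul_inv_cancel]
          exact one_mem _
        · have h1 := key u (h.U_le_K hp hu) v (h.U_le_K hp hv) huD hvD
          have h2 := (hmem _).mp h1
          have e : x * v * x⁻¹ * v⁻¹ = w := by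
            calc x * v * x⁻¹ * v⁻¹ = x * u * x⁻¹ * (x * (u⁻¹ * v) * x⁻¹) * (u⁻¹ * v)⁻¹ * u⁻¹ := by group
              _ = x * u * x⁻¹ * ((u⁻¹ * v) * x * x⁻¹) * (u⁻¹ * v)⁻¹ * u⁻¹ := by rw [← h2]
              _ = w := by rw [hw]; group
          rw [e]
          exact mem_sup_right (mem_zpowers w))
    omega

/-- **Section B** -/
theorem caseB_false (h : Tri V U C) (hp : Pt V p) (hq : Pt V q) (hpq : p ≠ q)
    (hK : Nat.card ↥(K U p) = 64) (hC : C p = centralizer ({p} : Set G))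
    (hG : ∀ M : Subgroup G, M.index ≠ 2) : False := by
  obtain ⟨N, hNC, hUN, hUqN, hKN, k, hk, hkN, hNk⟩ := exists_N h hp hq hpq hK
  have hpp := h.pp hp
  have hhalf : IsHalf N p :=
    ⟨hNC.trans (h.C_le p hp), relIndex_eq_two (h.C_le p hp (h.K_le_C hp hp hk)) hkN (by rw [← hC]; exact hNk)⟩
  refine TwoFEnd.Data.false_of (z := p) (N := N) (K := K U p) (U := U p) (Q := Q U C p) ?_ hG
  refine
    { half := hhalf
      z_sq := hpp
      z_ne := hp.2
      z_mem := h.p_mem hp hp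
      U_le := h.U_le_K hp
      K_comm := ?_
      K_two := isPGroup_K h hp
      K_cent := centralizer_le (h.U_le_K hp)
      K_sq := fun k hk => TriTen.sq_K h hp hk
      U_sq := h.sqU p hp
      K_N := fun k hk => ⟨hKN k hk, fun h1 => hUN h1⟩
      exists_k := exists_k h hp hK
      K_le := h.K_le_Q hp
      Q_le := (kst_le _ _ _).trans (h.C_le p hp)
      KQ := ?_
      UQ := ?_
      rho := ?_
      Q_sq := ?_
      Q_big := ?_
      pt_swap := ?_
      pt_good := ?_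
      pt_orb := ?_ }
  · intro k hk l hl
    exact K_comm h hp hK hk hl
  · intro y hy k hk
    have h1 := comm_K_C h hp hK hk (inv_mem hy.1)
    rwa [inv_inv] at h1
  · intro y hy u hu
    rcases ((h.mem_Q_iff hp).mp (inv_mem hy)).2 u hu with h1 | h1
    · left; rwa [inv_inv] at h1
    · right
      rw [inv_inv] at h1
      rw [h1, h.commU hp (h.p_mem hp hp) hu]
  · intro y hy k hk hkU hyk
    refine inv_mem_iff.mp (rho h hp hK hk hkU (inv_mem hy) (Or.inl ?_))
    rwa [inv_inv]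
  · intro y hy
    exact sq_mem_K h hp hy
  · rw [TriQK.relIndex_K h hp]; decide
  · intro x hx hxU hxp
    obtain ⟨g, hg⟩ := hx
    obtain ⟨c, hc, hcx⟩ := exists_move h hp hxU (by
      rintro rfl
      apply hp.2
      have : p = g⁻¹ * (g * p * g⁻¹) * g := by group
      rw [this, hg]; group) hxp
    exact ⟨c, hc, by rw [hcx, h.commU hp (h.p_mem hp hp) hxU]⟩
  · intro x hx hxU hxp u hu
    obtain ⟨g, hg⟩ := hx
    obtain ⟨t, ht, htu⟩ := good_conj h hp hq hpq hC hg hxU hxp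
    rw [hhalf.bad_iff ht (h.commU hp hu hxU), not_not]
    exact hUqN (htu u hu)
  · rintro - x ⟨g, hg⟩ hxz hxK
    refine pt_orb h hp hK ?_ ?_ hxK
    · rw [hC]; exact mem_centralizer_singleton_iff.mpr hxz.symm
    · rw [← hg]
      have : g * p * g⁻¹ * (g * p * g⁻¹) = g * (p * p) * g⁻¹ := by group
      rw [this, hpp]; group

end Cfsg.Agent.Omega.TitsAmal.TriB

end

end

-- merged: Cfsg.Agent.Mrg.Omega.TitsAmal.Main
section

section


/-!
# The Tits group from its amalgam, without solvability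

`Dat V W z`: `V` is a four-group, `N_G(V)` induces `S₃` on `V`, `z ∈ V`, `W ≥ V` is elementary abelian of order 32 and
normal in `C_G(z)`, the kernel of `C_G(z)` on `W / ⟨z⟩` has index 10 or 20 in `C_G(z)`, `W` does not commute with its
conjugates `W ^ n`, `n ∈ N_G(V) - C_G(z)`, and no nontrivial 2-group is normalised by `C_G(z)` and `N_G(V)`.

`Dat.isoTits`: if `G` is of characteristic 2 type and has no subgroup of index 2, then `G` is the Tits group.
-/

set_option autoImplicit false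

namespace Cfsg.Agent.Omega.TitsAmal

open Subgroup Cfsg Cfsg.Agent.ZN Cfsg.Agent.MinSimple.Geo
open Cfsg.Agent.Classification.TitsFin
open Cfsg.Agent.Omega.TitsAmal.Tri (Pt kst cj_kst)
open Cfsg.Agent.ZN.Block (conj_mem_of_normalizer conj_mem_of_normalizer' le_normalizer_of_forall)

universe u

variable {G : Type u} [Group G]

/-- the amalgam -/
structure Dat (V W : Subgroup G) (z : G) : Prop where
  cardV : Nat.card V = 4
  sqV : ∀ v ∈ V, v * v = 1
  zV : z ∈ V
  z1 : z ≠ 1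
  trans : ∀ v ∈ V, v ≠ 1 → ∃ n ∈ normalizer (V : Set G), n * z * n⁻¹ = v
  swap : ∃ s ∈ normalizer (V : Set G), s * z * s⁻¹ = z ∧ ∃ v ∈ V, s * v * s⁻¹ ≠ v
  cardW : Nat.card W = 32
  sqW : ∀ w ∈ W, w * w = 1
  VW : V ≤ W
  CW : centralizer ({z} : Set G) ≤ normalizer (W : Set G)
  idx : (kst (centralizer ({z} : Set G)) W z).relIndex (centralizer ({z} : Set G)) = 10 ∨
    (kst (centralizer ({z} : Set G)) W z).relIndex (centralizer ({z} : Set G)) = 20
  nc : ∀ n ∈ normalizer (V : Set G), n * z * n⁻¹ ≠ z →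
    ∃ a ∈ W, ∃ b ∈ W, a * (n * b * n⁻¹) ≠ (n * b * n⁻¹) * a
  nonloc : ∀ R : Subgroup G, IsPGroup 2 R → centralizer ({z} : Set G) ≤ normalizer (R : Set G) →
    normalizer (V : Set G) ≤ normalizer (R : Set G) → R = ⊥

namespace Dat

variable {V W : Subgroup G} {z : G} (D : Dat V W z)
include D

theorem zz : z * z = 1 := D.sqV z D.zV

/-- an element `n ∈ N_G(V)` with `n z n⁻¹ = p` -/
theorem exists_n {p : G} (hp : Pt V p) : ∃ n ∈ normalizer (V : Set G), n * z * n⁻¹ = p :=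
  D.trans p hp.1 hp.2

open Classical in
omit D in
/-- the subgroup `U p = n W n⁻¹` -/
noncomputable def Uf (V W : Subgroup G) (z p : G) : Subgroup G :=
  if h : ∃ n ∈ normalizer (V : Set G), n * z * n⁻¹ = p then cj h.choose W else ⊥

theorem Uf_eq {n p : G} (hn : n ∈ normalizer (V : Set G)) (hp : n * z * n⁻¹ = p) :
    Uf V W z p = cj n W := by
  have h : ∃ n ∈ normalizer (V : Set G), n * z * n⁻¹ = p := ⟨n, hn, hp⟩
  rw [Uf, dif_pos h]
  obtain ⟨h1, h2⟩ := h.choose_spec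
  set m := h.choose with hm
  have h3 : n⁻¹ * m ∈ centralizer ({z} : Set G) := by
    rw [mem_centralizer_singleton_iff]
    have h4 : m * z * m⁻¹ = n * z * n⁻¹ := by rw [h2, hp]
    calc n⁻¹ * m * z = n⁻¹ * (m * z * m⁻¹) * m := by group
      _ = z * (n⁻¹ * m) := by rw [h4]; group
  have h5 := cj_eq_of_mem_normalizer (D.CW h3)
  calc cj m W = cj (n * (n⁻¹ * m)) W := by rw [mul_inv_cancel_left]
    _ = cj n (cj (n⁻¹ * m) W) := (cj_cj _ _ _).symm
    _ = cj n W := by rw [h5]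

theorem Uf_z : Uf V W z z = W := by
  rw [D.Uf_eq (one_mem _) (by group), cj_one]

/-- the four elements of `V` -/
theorem four {p a b : G} (hp : Pt V p) (ha : Pt V a) (hap : a ≠ p) (hb : b ∈ V) :
    b = 1 ∨ b = p ∨ b = a ∨ b = p * a := by
  classical
  have hza : p * a ∈ V := mul_mem hp.1 ha.1
  have hinv : p⁻¹ = p := inv_eq_self (D.sqV p hp.1)
  have hfin : Finite V := Nat.finite_of_card_ne_zero (by rw [D.cardV]; norm_num)
  have h1 : ({1, p, a, p * a} : Set G) ⊆ (V : Set G) := by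
    intro x hx
    rcases hx with rfl | rfl | rfl | rfl
    · exact one_mem _
    · exact hp.1
    · exact ha.1
    · exact hza
  have n1 : (1 : G) ≠ p := Ne.symm hp.2
  have n2 : (1 : G) ≠ a := Ne.symm ha.2
  have n3 : (1 : G) ≠ p * a := by
    intro e
    exact hap (by rw [← inv_eq_of_mul_eq_one_right e.symm, hinv])
  have n4 : p ≠ a := Ne.symm hap
  have n5 : p ≠ p * a := by
    intro e
    exact ha.2 (left_eq_mul.mp e)
  have n6 : a ≠ p * a := by
    intro e
    exact hp.2 (right_eq_mul.mp e)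
  have h2 : ({1, p, a, p * a} : Set G).ncard = 4 := by
    rw [Set.ncard_insert_of_notMem, Set.ncard_insert_of_notMem, Set.ncard_pair n6]
    · simp only [Set.mem_insert_iff, Set.mem_singleton_iff]; push Not; exact ⟨n4, n5⟩
    · simp only [Set.mem_insert_iff, Set.mem_singleton_iff]; push Not; exact ⟨n1, n2, n3⟩
  have h3 : (V : Set G).ncard = 4 := by
    rw [← D.cardV]; rfl
  have h4 := Set.eq_of_subset_of_ncard_le h1 (by rw [h2, h3]) (Set.toFinite _)
  have h5 : b ∈ ({1, p, a, p * a} : Set G) := by rw [h4]; exact hb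
  exact h5

/-- the four elements of `V` -/
theorem cases {a b : G} (ha : a ∈ V) (ha1 : a ≠ 1) (haz : a ≠ z) (hb : b ∈ V) :
    b = 1 ∨ b = z ∨ b = a ∨ b = z * a := D.four ⟨D.zV, D.z1⟩ ⟨ha, ha1⟩ haz hb

omit D in
theorem conj_mem_V {n v : G} (hn : n ∈ normalizer (V : Set G)) (hv : v ∈ V) : n * v * n⁻¹ ∈ V :=
  (mem_normalizer_iff.mp hn v).mp hv

omit D in
theorem conj_mem_V' {n v : G} (hn : n ∈ normalizer (V : Set G)) (hv : v ∈ V) : n⁻¹ * v * n ∈ V := by
  have := conj_mem_V (inv_mem hn) hv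
  rwa [inv_inv] at this

omit D in
theorem conj_pt {n p : G} (hn : n ∈ normalizer (V : Set G)) (hp : Pt V p) : Pt V (n * p * n⁻¹) :=
  ⟨conj_mem_V hn hp.1, fun e => hp.2 (conj_eq_one_iff.mp e)⟩

/-- two ordered pairs of points are conjugate -/
theorem sym {p q p' q' : G} (hp : Pt V p) (hq : Pt V q) (hpq : p ≠ q) (hp' : Pt V p') (hq' : Pt V q')
    (hpq' : p' ≠ q') : ∃ n ∈ normalizer (V : Set G), n * p * n⁻¹ = p' ∧ n * q * n⁻¹ = q' := by
  obtain ⟨n1, hn1, e1⟩ := D.exists_n hp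
  obtain ⟨n2, hn2, e2⟩ := D.exists_n hp'
  have ha : n1⁻¹ * q * n1 ∈ V := conj_mem_V' hn1 hq.1
  have ha1 : n1⁻¹ * q * n1 ≠ 1 := by
    intro e
    apply hq.2
    have : q = n1 * (n1⁻¹ * q * n1) * n1⁻¹ := by group
    rw [this, e]; group
  have haz : n1⁻¹ * q * n1 ≠ z := by
    intro e
    apply hpq
    rw [← e1, ← e]; group
  have hb : n2⁻¹ * q' * n2 ∈ V := conj_mem_V' hn2 hq'.1
  have hb1 : n2⁻¹ * q' * n2 ≠ 1 := by
    intro e
    apply hq'.2
    have : q' = n2 * (n2⁻¹ * q' * n2) * n2⁻¹ := by group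
    rw [this, e]; group
  have hbz : n2⁻¹ * q' * n2 ≠ z := by
    intro e
    apply hpq'
    rw [← e2, ← e]; group
  rcases D.cases ha ha1 haz hb with h | h | h | h
  · exact absurd h hb1
  · exact absurd h hbz
  · refine ⟨n2 * n1⁻¹, mul_mem hn2 (inv_mem hn1), ?_, ?_⟩
    · rw [← e1, ← e2]; group
    · calc n2 * n1⁻¹ * q * (n2 * n1⁻¹)⁻¹ = n2 * (n1⁻¹ * q * n1) * n2⁻¹ := by group
        _ = q' := by rw [← h]; group
  · obtain ⟨s, hs, hsz, v, hv, hsv⟩ := D.swap
    have hsa : s * (n1⁻¹ * q * n1) * s⁻¹ = z * (n1⁻¹ * q * n1) := by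
      rcases D.cases ha ha1 haz (conj_mem_V hs ha) with h' | h' | h' | h'
      · exact absurd (conj_eq_one_iff.mp h') ha1
      · exfalso
        apply haz
        have : n1⁻¹ * q * n1 = s⁻¹ * (s * (n1⁻¹ * q * n1) * s⁻¹) * s := by group
        rw [this, h']
        have : z = s * z * s⁻¹ := hsz.symm
        nth_rewrite 1 [this]; group
      · exfalso
        apply hsv
        rcases D.cases ha ha1 haz hv with h'' | h'' | h'' | h''
        · rw [h'']; group
        · rw [h'', hsz]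
        · rw [h'', h']
        · rw [h'']
          calc s * (z * (n1⁻¹ * q * n1)) * s⁻¹ = (s * z * s⁻¹) * (s * (n1⁻¹ * q * n1) * s⁻¹) := by group
            _ = z * (n1⁻¹ * q * n1) := by rw [hsz, h']
      · exact h'
    refine ⟨n2 * s * n1⁻¹, mul_mem (mul_mem hn2 hs) (inv_mem hn1), ?_, ?_⟩
    · rw [← e1, ← e2]
      calc n2 * s * n1⁻¹ * (n1 * z * n1⁻¹) * (n2 * s * n1⁻¹)⁻¹ = n2 * (s * z * s⁻¹) * n2⁻¹ := by group
        _ = n2 * z * n2⁻¹ := by rw [hsz]
    · calc n2 * s * n1⁻¹ * q * (n2 * s * n1⁻¹)⁻¹ = n2 * (s * (n1⁻¹ * q * n1) * s⁻¹) * n2⁻¹ := by group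
        _ = q' := by rw [hsa, ← h]; group

/-- the configuration of the three points -/
theorem tri [Finite G] (hG : IsCharacteristicTwoType G) :
    Tri V (Uf V W z) (fun p => centralizer ({p} : Set G)) where
  cardV := D.cardV
  sqV := D.sqV
  cardU p hp := by
    obtain ⟨n, hn, e⟩ := D.exists_n hp
    rw [D.Uf_eq hn e, card_cj, D.cardW]
  sqU p hp u hu := by
    obtain ⟨n, hn, e⟩ := D.exists_n hp
    rw [D.Uf_eq hn e] at hu
    obtain ⟨w, hw, rfl⟩ := hu
    change n * w * n⁻¹ * (n * w * n⁻¹) = 1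
    have h1 := D.sqW w hw
    calc n * w * n⁻¹ * (n * w * n⁻¹) = n * (w * w) * n⁻¹ := by group
      _ = 1 := by rw [h1]; group
  V_le p hp := by
    obtain ⟨n, hn, e⟩ := D.exists_n hp
    rw [D.Uf_eq hn e, ← cj_eq_of_mem_normalizer hn]
    exact cj_mono D.VW
  C_le p hp := le_rfl
  C_norm p hp := by
    obtain ⟨n, hn, e⟩ := D.exists_n hp
    intro c hc
    rw [mem_normalizer_iff_cj, D.Uf_eq hn e]
    have h1 : n⁻¹ * c * n ∈ centralizer ({z} : Set G) := by
      rw [mem_centralizer_singleton_iff] at hc ⊢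
      rw [← e] at hc
      calc n⁻¹ * c * n * z = n⁻¹ * (c * (n * z * n⁻¹)) * n := by group
        _ = z * (n⁻¹ * c * n) := by rw [hc]; group
    have h2 := cj_eq_of_mem_normalizer (D.CW h1)
    calc cj c (cj n W) = cj (n * (n⁻¹ * c * n)) W := by rw [cj_cj]; congr 1; group
      _ = cj n (cj (n⁻¹ * c * n) W) := (cj_cj _ _ _).symm
      _ = cj n W := by rw [h2]
  le_C p hp := inf_le_right
  sym p q p' q' hp hq hpq hp' hq' hpq' := D.sym hp hq hpq hp' hq' hpq'
  conjU n hn p hp := by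
    obtain ⟨m, hm, e⟩ := D.exists_n hp
    rw [D.Uf_eq hm e, cj_cj, D.Uf_eq (mul_mem hn hm) (by rw [← e]; group)]
  conjC n hn p hp := cj_centralizer_singleton n p
  idx p hp := by
    obtain ⟨n, hn, e⟩ := D.exists_n hp
    have h1 := D.idx
    rw [← relIndex_cj n, cj_kst, cj_centralizer_singleton, e, ← D.Uf_eq hn e] at h1
    exact h1
  nc p q hp hq hpq := by
    obtain ⟨n, hn, e⟩ := D.exists_n hp
    obtain ⟨m, hm, e'⟩ := D.exists_n hq
    obtain ⟨a, ha, b, hb, hab⟩ := D.nc (n⁻¹ * m) (mul_mem (inv_mem hn) hm) (by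
      intro h
      apply hpq
      calc p = n * z * n⁻¹ := e.symm
        _ = n * (n⁻¹ * m * z * (n⁻¹ * m)⁻¹) * n⁻¹ := by rw [h]
        _ = m * z * m⁻¹ := by group
        _ = q := e')
    refine ⟨n * a * n⁻¹, ?_, m * b * m⁻¹, ?_, fun h => hab ?_⟩
    · rw [D.Uf_eq hn e]; exact conj_mem_cj ha
    · rw [D.Uf_eq hm e']; exact conj_mem_cj hb
    · calc a * (n⁻¹ * m * b * (n⁻¹ * m)⁻¹) = n⁻¹ * ((n * a * n⁻¹) * (m * b * m⁻¹)) * n := by group
        _ = n⁻¹ * ((m * b * m⁻¹) * (n * a * n⁻¹)) * n := by rw [h]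
        _ = n⁻¹ * m * b * (n⁻¹ * m)⁻¹ * a := by group
  nonloc p hp R hR h1 hnV := by
    have hzp : centralizer ({z} : Set G) ≤ normalizer (R : Set G) := by
      obtain ⟨n, hn, e⟩ := D.exists_n hp
      intro c hc
      have h3 : n * c * n⁻¹ ∈ centralizer ({p} : Set G) := by
        rw [mem_centralizer_singleton_iff] at hc ⊢
        rw [← e]
        calc n * c * n⁻¹ * (n * z * n⁻¹) = n * (c * z) * n⁻¹ := by group
          _ = n * z * n⁻¹ * (n * c * n⁻¹) := by rw [hc]; group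
      have h4 := h1 h3
      have h5 := mul_mem (mul_mem (inv_mem (hnV hn)) h4) (hnV hn)
      have e2 : n⁻¹ * (n * c * n⁻¹) * n = c := by group
      rwa [e2] at h5
    exact D.nonloc R hR hzp hnV
  alt := by
    refine Or.inr ⟨fun _ _ => rfl, fun R hR hR1 => ?_⟩
    have h1 : IsTwoLocal (normalizer (R : Set G)) := ⟨R, hR, hR1, rfl⟩
    have h2 : R ≤ o2 (normalizer (R : Set G)) :=
      Block.le_o2 hR le_normalizer le_rfl
    intro g hg
    refine inf_centralizer_o2_le hG h1 ⟨?_, hg⟩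
    exact centralizer_le_normalizer _ (centralizer_le h2 hg)
  char2 p hp := inf_centralizer_o2_le hG (isTwoLocal_centralizer (D.sqV p hp.1) hp.2)

/-- the final configuration of `Classification/TitsFin` -/
theorem finHyp [Finite G] (hG : IsCharacteristicTwoType G) (h2 : ∀ N : Subgroup G, N.index ≠ 2) {p : G}
    (hp : Pt V p) (hpz : p ≠ z) : FinHyp z p := by
  have h := D.tri hG
  have hz : Pt V z := ⟨D.zV, D.z1⟩
  rcases TriTen.card_K h hz with hK | hK
  · exact TriFin.finHyp h hz hp hpz.symm rfl hK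
  · exact (TriB.caseB_false h hz hp hpz.symm hK rfl h2).elim

theorem exists_pt : ∃ p, Pt V p ∧ p ≠ z := by
  by_contra hcon
  push Not at hcon
  have h1 : V ≤ zpowers z := by
    intro v hv
    by_cases hv1 : v = 1
    · rw [hv1]; exact one_mem _
    · rw [hcon v ⟨hv, hv1⟩]; exact mem_zpowers z
  have h3 : Nat.card (zpowers z) ≤ 2 := by
    rw [Nat.card_zpowers]
    exact orderOf_le_of_pow_eq_one (by norm_num) (by rw [pow_two]; exact D.zz)
  have hfin : Finite (zpowers z) := by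
    have : IsOfFinOrder z := isOfFinOrder_iff_pow_eq_one.mpr ⟨2, by norm_num, by rw [pow_two]; exact D.zz⟩
    exact this.finite_zpowers
  have h2 := Subgroup.card_le_of_le h1
  rw [D.cardV] at h2
  omega

/-- **The Tits group from its amalgam.** -/
theorem isoTits [Finite G] (hG : IsCharacteristicTwoType G) (h2 : ∀ N : Subgroup G, N.index ≠ 2) :
    Cfsg.Lie.IsoTits G := by
  obtain ⟨p, hp, hpz⟩ := D.exists_pt
  exact TitsIso.isoTits_of TitsIso.indexLe (D.finHyp hG h2 hp hpz) hG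

/-- **The Tits group from its amalgam.** -/
theorem known [Finite G] (hG : IsCharacteristicTwoType G) (h2 : ∀ N : Subgroup G, N.index ≠ 2) :
    IsKnownSimple' G := by
  obtain ⟨p, hp, hpz⟩ := D.exists_pt
  exact TitsIso.known_of TitsIso.indexLe (D.finHyp hG h2 hp hpz) hG

end Dat

end Cfsg.Agent.Omega.TitsAmal

end

section


/-!
# NO-3S, `q = 2`, `n = 1` (helper311's text #13963), section 6: the type `T5` ends in the Tits group

`Fam` for the FULL family (`cf p = C_G(p)`), `F` a normal 5-subgroup of `H = C_G(z)/Q_z`, `d ∈ F` inverted by `a`, `|[M,d]| = 16`,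
`F` normalizes `⟨d⟩`, and `|K'_z| ≤ 64` for some subfamily: `|W_z| = 32`, `|H| = 20`, `G` is the Tits group.
-/

set_option autoImplicit false
set_option linter.unusedSectionVars false

namespace Cfsg.Agent.Omega.NO3S.Fit

open Subgroup Cfsg Cfsg.Agent.ZN Cfsg.Agent.MinSimple.Geo Cfsg.Agent.Omega.CaseL
open Cfsg.Agent.ZN.Block (conj_mem_of_normalizer conj_mem_of_normalizer' le_normalizer_of_forall
  mem_normalizer_of)

universe u

variable {G : Type u} [Group G] {T V : Subgroup G} {z : G}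
variable {M H : Type u} [AddCommGroup M] [Group H] [DistribMulAction H M]

/-- the full family -/
abbrev cfull (p : G) : Subgroup G := centralizer ({p} : Set G)

theorem kst_eq {cf : G → Subgroup G} (_ : Fam T V z cf) (hc : cf z = centralizer ({z} : Set G)) :
    TitsAmal.Tri.kst (centralizer ({z} : Set G)) (ww V cf z) z = qq V cf z := by
  ext c
  constructor
  · rintro ⟨h1, h2, h3, -⟩
    refine ⟨by rw [hc]; exact h1, h2, h3⟩
  · intro hq
    refine ⟨?_, hq.2.1, hq.2.2, fun w hw => ?_⟩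
    · have := hq.1
      rwa [hc] at this
    · have := (inv_mem hq).2.2 w hw
      rwa [inv_inv] at this

/-- the full family with `|M| = 16`, `|H| = 20` gives the data of the Tits amalgam -/
theorem Fam.dat_of [Finite G] (h : Fam T V z cfull) (R : MRep V cfull z M H) (hM : Nat.card M = 16)
    (hH : Nat.card H = 20) : TitsAmal.Dat V (ww V cfull z) z where
  cardV := h.ln.card_V
  sqV := h.ln.sq
  zV := h.ln.z_mem
  z1 := h.ln.z_ne
  trans := h.ln.trans
  swap := by
    obtain ⟨q, -, hq, hq1⟩ := h.f1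
    refine ⟨q, h.qq_le_normalizer h.ln.z_mem hq, conj_eq_of_comm (h.qq_p hq), ?_⟩
    by_contra hcon
    push Not at hcon
    apply hq1
    rw [mem_centralizer_iff]
    intro v hv
    exact (comm_of_conj_eq (hcon v hv)).symm
  cardW := by rw [R.card_ww h, hM]
  sqW := h.sqz
  VW := h.V_le
  CW := h.cf_norm
  idx := by
    right
    have e : TitsAmal.Tri.kst (centralizer ({z} : Set G)) (ww V cfull z) z = qq V cfull z := kst_eq h rfl
    rw [e]
    have hker : R.hom.ker = (qq V cfull z).subgroupOf (cfull z) := by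
      ext c
      rw [MonoidHom.mem_ker, mem_subgroupOf]
      exact R.phi_ker c c.2
    have h1 : (qq V cfull z).relIndex (cfull z) = Nat.card H := by
      rw [relIndex, ← hker, index_ker, MonoidHom.range_eq_top.mpr (R.hom_surj h), Subgroup.card_top]
    rw [← hH]
    exact h1
  nc := by
    intro n hn hnz
    obtain ⟨a, ha, b, hb, hab⟩ := h.nc' h.ln.z_mem h.ln.z_ne (h.conj_pt hn h.ln.z_mem)
      (Fam.conj_ne h.ln.z_ne) hnz
    rw [← h.cj_ww hn h.ln.z_mem h.ln.z_ne] at hb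
    refine ⟨a, ha, n⁻¹ * b * n, mem_cj.mp hb, ?_⟩
    have e : n * (n⁻¹ * b * n) * n⁻¹ = b := by group
    rw [e]
    exact hab
  nonloc := fun _ hR h1 h2 => h.nl hR h2 h1

/-- **section 6** -/
theorem Fam.five_known [Finite G] [Finite M] [Finite H] [FaithfulSMul H M] (h : Fam T V z cfull)
    (R : MRep V cfull z M H) {y : G} (hy : y ∈ V) (hy1 : y ≠ 1) (hyz : y ≠ z) {F : Subgroup H} {a d : H}
    (ha : a * a = 1) (hd : d ^ 5 = 1) (hi : a * d * a⁻¹ = d⁻¹) (hbr : Nat.card (Abs.br M d) = 16)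
    (hv0 : R.pi y ∈ Abs.br M d) (hdF : d ∈ F) (hF : IsPGroup 5 F) (hFn : F.Normal)
    (hFd : ∀ f ∈ F, f * d * f⁻¹ ∈ zpowers d) (h2 : ∃ x : H, x * d * x⁻¹ = d ^ 2)
    (pl : ∀ f : H, f * a = a * f → f • R.pi y = R.pi y)
    {C : Subgroup G} (hC : normalizer (V : Set G) ⊓ centralizer ({z} : Set G) ≤ C)
    (hC' : C ≤ centralizer ({z} : Set G)) (h64 : Nat.card (kk V (subf V z C) z) ≤ 64)
    (h2' : ∀ N : Subgroup G, N.index ≠ 2) : IsKnownSimple' G := by
  have two : ∀ m : M, m + m = 0 := R.two h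
  have hd1 : d ≠ 1 := by
    rintro rfl
    rw [Abs.br_one] at hbr
    simp at hbr
  -- `|M| ≤ 32`
  have hle : ww V cfull z ≤ kk V (subf V z C) z := by
    intro w hw
    rw [kk, Fam.ww_subf hC, mem_centralizer_iff]
    intro x hx
    exact h.ab x (wf_mono hC' hx) w hw
  have hM32 : Nat.card M ≤ 32 := by
    have h1 := Subgroup.card_le_of_le hle
    rw [R.card_ww h] at h1
    omega
  obtain ⟨htop, hFz⟩ := Abs.top_of_card_le two hM32 hd hd1 hbr hdF hF hFn hFd hv0 (R.span h hy hy1 hyz)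
  have hM : Nat.card M = 16 := by
    rw [htop, AddSubgroup.card_top] at hbr
    exact hbr
  obtain ⟨hfx, -⟩ := Abs.fix_four (M := M) two hM ha hd hd1 hi
  have hn : ∀ x : H, x * d * x⁻¹ ∈ zpowers d := by
    intro x
    have := hFn.conj_mem d hdF x
    rwa [hFz] at this
  have hH := Abs.card_eq_twenty two hM ha hd hd1 hfx.symm.le (R.v0_ne h hy hy1 hyz) pl hn h2
  exact (h.dat_of R hM hH).known h.ln.charTwo h2'

/-- a simple group with a four-subgroup has no subgroup of index 2 -/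
theorem index_ne_two [Finite G] (hs : IsSimpleGroup G) (hV : Nat.card V = 4) (N : Subgroup G) :
    N.index ≠ 2 := by
  intro hN
  have hn : N.Normal := normal_of_index_eq_two hN
  rcases hn.eq_bot_or_eq_top with e | e
  · rw [e, index_bot] at hN
    have := V.card_subgroup_dvd_card
    rw [hV, hN] at this
    omega
  · rw [e, index_top] at hN
    omega

end Cfsg.Agent.Omega.NO3S.Fit

end

end
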